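import Cfsg.Agent.TwoFusion.GoldWFunctor

/-!
# Theorem PP, part [FUN]: the core-separated signalizer functor

`CS E F` (from `GoldWFunctor`): `E, F` commuting core-separated four-groups. `Complete G` is the completeness of all
functors of S1330 (a theorem: `ProdFusion.FunctorComplete.complete`). The statements below are about
`T x y = [O_x, y] (O_x ∩ O_y)` and `Wab x y = T(x;y) T(y;x) [O_{xy}, y]`, `x ∈ E#`, `y ∈ F#`.
-/

set_option autoImplicit false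
set_option linter.style.haveILetI false
set_option maxHeartbeats 400000

namespace Cfsg.Agent.ProdFusion.Functor

open Subgroup
open scoped commutatorElement
open Cfsg.Agent.TwoFusion.ClosedFam Cfsg.Agent.TwoFusion.ClosedSimple
open Cfsg.Agent.Lib.CoprimeCommutator
open Cfsg.Agent.TwoFusion.ClosedFour Cfsg.Agent.TwoFusion.ClosedFunctor
open Cfsg.Agent.TwoFusion.GoldWFunctor

variable {G : Type*} [Group G] {E F : Subgroup G}

/-- a four-group from two different commuting involutions -/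
theorem exists_four {a b : G} (ha : a * a = 1) (hb : b * b = 1) (ha1 : a ≠ 1) (hb1 : b ≠ 1) (hne : a ≠ b)
    (hab : a * b = b * a) :
    ∃ E : Subgroup G, Four Set.univ E ∧ a ∈ E ∧ b ∈ E ∧ ∀ Q : Subgroup G, a ∈ Q → b ∈ Q → E ≤ Q := by
  let E := Cfsg.Agent.TwoFusion.WreathedFour.klein a b ha hb hab
  have hE : IsKleinFour E := Cfsg.Agent.TwoFusion.WreathedFour.isKleinFour_klein a b ha hb hab ha1 hb1 hne
  have hmem : ∀ x, x ∈ E ↔ x = 1 ∨ x = a ∨ x = b ∨ x = a * b := fun x => Iff.rfl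
  have hsq : ∀ x ∈ E, x * x = 1 := by
    intro x hx
    rcases (hmem x).1 hx with rfl | rfl | rfl | rfl
    · exact one_mul 1
    · exact ha
    · exact hb
    · calc a * b * (a * b) = a * (b * a) * b := by group
        _ = (a * a) * (b * b) := by rw [← hab]; group
        _ = 1 := by rw [ha, hb, one_mul]
  refine ⟨E, ⟨?_, hsq, hE.card_four, fun _ _ => Set.mem_univ _⟩, (hmem a).2 (Or.inr (Or.inl rfl)),
    (hmem b).2 (Or.inr (Or.inr (Or.inl rfl))), ?_⟩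
  · intro x hx y hy
    have h1 : (x * y) * (x * y) = 1 := hsq _ (mul_mem hx hy)
    have hx2 : x⁻¹ = x := inv_eq_of_mul_eq_one_right (hsq x hx)
    have hy2 : y⁻¹ = y := inv_eq_of_mul_eq_one_right (hsq y hy)
    have h2 : (x * y)⁻¹ = x * y := inv_eq_of_mul_eq_one_right h1
    rw [← h2, mul_inv_rev, hx2, hy2]
  · intro Q haQ hbQ x hx
    rcases (hmem x).1 hx with rfl | rfl | rfl | rfl
    · exact one_mem Q
    · exact haQ
    · exact hbQ
    · exact mul_mem haQ hbQ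

/-- constructor for `CS` -/
theorem CS.mk' (hE : Four Set.univ E) (hF : Four Set.univ F) (hcs : Cfsg.IsCoreSeparated E F) : CS E F :=
  ⟨hE, hF, hcs.2.2.2.2.2.2.1, hcs.2.2.2.2.2.1, hcs⟩

/-- `O_x ∩ O_y ≤ T(x; y)` -/
theorem inf_le_T (x y : G) : Oc x ⊓ Oc y ≤ T x y := le_sup_right

section

variable [Finite G] (hC : Complete G) (h : CS E F)
include hC h

/-- `T(x; y) = [O_x, F] (O_x ∩ O(C(F)))` -/
theorem T_eq {x y : G} (hx : x ∈ E) (hx1 : x ≠ 1) (hy : y ∈ F) (hy1 : y ≠ 1) :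
    T x y = ⁅Oc x, F⁆ ⊔ (Oc x ⊓ core (centralizer (F : Set G))) := by
  rw [← CS.theta_eq_T hC h hx hx1 hy hy1, Fours.theta_eq h.fours hx]

/-- `T(x; y)` does not depend on `y ∈ F#`. -/
theorem T_congr {x y y' : G} (hx : x ∈ E) (hx1 : x ≠ 1) (hy : y ∈ F) (hy1 : y ≠ 1) (hy' : y' ∈ F)
    (hy'1 : y' ≠ 1) : T x y = T x y' := by
  rw [T_eq hC h hx hx1 hy hy1, T_eq hC h hx hx1 hy' hy'1]

theorem commutator_le_T {x y : G} (hx : x ∈ E) (hx1 : x ≠ 1) (hy : y ∈ F) (hy1 : y ≠ 1) :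
    ⁅Oc x, F⁆ ≤ T x y := by
  rw [T_eq hC h hx hx1 hy hy1]
  exact le_sup_left

omit [Finite G] in
/-- (1) -/
theorem vc_odd : Odd (Nat.card (Vc E F)) := (hC E F h.cs).1

/-- (2) -/
theorem vc_eq {x y : G} (hx : x ∈ E) (hx1 : x ≠ 1) (hy : y ∈ F) (hy1 : y ≠ 1) : Vc E F = Wab x y :=
  CS.vc_eq_Wab hC h hx hx1 hy hy1

theorem wab_odd {x y : G} (hx : x ∈ E) (hx1 : x ≠ 1) (hy : y ∈ F) (hy1 : y ≠ 1) :
    Odd (Nat.card (Wab x y)) := by
  rw [← vc_eq hC h hx hx1 hy hy1]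
  exact (hC E F h.cs).1

/-- `Wab x y` does not depend on `x ∈ E#`, `y ∈ F#`. -/
theorem wab_congr {x y x' y' : G} (hx : x ∈ E) (hx1 : x ≠ 1) (hy : y ∈ F) (hy1 : y ≠ 1) (hx' : x' ∈ E)
    (hx'1 : x' ≠ 1) (hy' : y' ∈ F) (hy'1 : y' ≠ 1) : Wab x y = Wab x' y' := by
  rw [← vc_eq hC h hx hx1 hy hy1, ← vc_eq hC h hx' hx'1 hy' hy'1]

theorem wab_comm {x y : G} (hx : x ∈ E) (hx1 : x ≠ 1) (hy : y ∈ F) (hy1 : y ≠ 1) : Wab x y = Wab y x := by
  rw [← vc_eq hC h hx hx1 hy hy1, Vc_comm, CS.vc_eq_Wab hC h.symm hy hy1 hx hx1]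

/-- (3) -/
theorem wab_inf_left {x y : G} (hx : x ∈ E) (hx1 : x ≠ 1) (hy : y ∈ F) (hy1 : y ≠ 1) :
    Wab x y ⊓ centralizer ({x} : Set G) = T x y := by
  rw [← vc_eq hC h hx hx1 hy hy1, CS.vc_inf_centralizer_left hC h hx hx1 hy hy1]

/-- (3) -/
theorem wab_inf_right {x y : G} (hx : x ∈ E) (hx1 : x ≠ 1) (hy : y ∈ F) (hy1 : y ≠ 1) :
    Wab x y ⊓ centralizer ({y} : Set G) = T y x := by
  rw [← vc_eq hC h hx hx1 hy hy1, CS.vc_inf_centralizer_right hC h hx hx1 hy hy1]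

theorem le_normalizer_wab {x y : G} (hx : x ∈ E) (hx1 : x ≠ 1) (hy : y ∈ F) (hy1 : y ≠ 1) :
    E ⊔ F ≤ normalizer (Wab x y : Set G) := by
  rw [← vc_eq hC h hx hx1 hy hy1]
  exact CS.le_normalizer_vc hC h

/-- `W(x, y)` is generated by the `T(x'; y)`, `x' ∈ E#`. -/
theorem wab_le_of_T_le {x y : G} (hx : x ∈ E) (hx1 : x ≠ 1) (hy : y ∈ F) (hy1 : y ≠ 1) {M : Subgroup G}
    (hM : ∀ x' ∈ E, x' ≠ 1 → T x' y ≤ M) : Wab x y ≤ M := by
  refine h.left.le_of_forall (wab_odd hC h hx hx1 hy hy1)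
    (le_sup_left.trans (le_normalizer_wab hC h hx hx1 hy hy1)) fun x' hx' hx'1 => ?_
  rw [wab_congr hC h hx hx1 hy hy1 hx' hx'1 hy hy1, wab_inf_left hC h hx' hx'1 hy hy1]
  exact hM x' hx' hx'1

theorem T_le_wab {x y : G} (hx : x ∈ E) (hx1 : x ≠ 1) (hy : y ∈ F) (hy1 : y ≠ 1) : T x y ≤ Wab x y := by
  rw [← wab_inf_left hC h hx hx1 hy hy1]
  exact inf_le_left

/-- (4) `T(x; y)` is normal in `O_x`. -/
theorem Oc_le_normalizer_T {x y : G} (hx : x ∈ E) (hx1 : x ≠ 1) (hy : y ∈ F) (hy1 : y ≠ 1) :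
    Oc x ≤ normalizer (T x y : Set G) := by
  have hFx : F ≤ normalizer (Oc x : Set G) :=
    Fours.le_normalizer_Oc' fun g hg => (h.comm x hx g hg).symm
  have hdec := le_commutator_sup h.right.isPGroup (Oc_odd x) hFx
  refine hdec.trans (sup_le ?_ ?_)
  · exact (commutator_le_T hC h hx hx1 hy hy1).trans le_normalizer
  · rw [T_eq hC h hx hx1 hy hy1]
    refine le_normalizer_of_conj fun g hg v hv => ?_
    have h1 : g ∈ normalizer ((⁅Oc x, F⁆ : Subgroup G) : Set G) :=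
      left_le_normalizer_commutator (Oc x) F hg.1
    have h2 : g ∈ normalizer ((Oc x ⊓ core (centralizer (F : Set G)) : Subgroup G) : Set G) := by
      refine le_normalizer_inf (H := Oc x ⊓ centralizer (F : Set G)) (inf_le_left.trans le_normalizer)
        (inf_le_right.trans (le_normalizer_core _)) hg
    have h3 : (⁅Oc x, F⁆ ⊔ (Oc x ⊓ core (centralizer (F : Set G)))).map (MulAut.conj g).toMonoidHom ≤
        ⁅Oc x, F⁆ ⊔ (Oc x ⊓ core (centralizer (F : Set G))) := by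
      rw [Subgroup.map_sup]
      refine sup_le_sup ?_ ?_
      · rintro _ ⟨w, hw, rfl⟩
        exact (mem_normalizer_iff.1 h1 w).1 hw
      · rintro _ ⟨w, hw, rfl⟩
        exact (mem_normalizer_iff.1 h2 w).1 hw
    exact h3 (mem_map_of_mem _ hv)

/-- `F` normalises `T(x; y)` (as does `E`). -/
theorem le_normalizer_T {x y : G} (hx : x ∈ E) (hx1 : x ≠ 1) (hy : y ∈ F) (hy1 : y ≠ 1) :
    E ⊔ F ≤ normalizer (T x y : Set G) := by
  rw [← CS.theta_eq_T hC h hx hx1 hy hy1]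
  exact CS.le_normalizer_theta hC h (mem_sup_left hx) hx1

/-- (6) comparison of `T(x; y₁)` with `T(x; y)`. -/
theorem T_le_T {x y y₁ : G} (hx : x ∈ E) (hx1 : x ≠ 1) (hy : y ∈ F) (hy1 : y ≠ 1) (hxy₁ : y₁ * x = x * y₁)
    (hFy₁ : ∀ f ∈ F, f * y₁ = y₁ * f) (hsq : y₁ * y₁ = 1)
    (h1 : ∀ f ∈ F, f ≠ 1 → ∀ v ∈ Oc x, v * f = f * v → ⁅v, y₁⁆ ∈ Oc f)
    (h2 : ∀ f ∈ F, f ≠ 1 → ∀ v ∈ Oc x, v ∈ Oc y₁ → v * f = f * v → v ∈ Oc f) : T x y₁ ≤ T x y := by
  have hFx : F ≤ normalizer (Oc x : Set G) :=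
    Fours.le_normalizer_Oc' fun g hg => (h.comm x hx g hg).symm
  have hFy : F ≤ normalizer (Oc y₁ : Set G) := Fours.le_normalizer_Oc' hFy₁
  have hN := Oc_le_normalizer_T hC h hx hx1 hy hy1
  have hy₁x : y₁ ∈ normalizer (Oc x : Set G) := le_normalizer_Oc x (mem_centralizer_singleton.2 hxy₁)
  have hconj : ∀ v ∈ Oc x, ⁅v, y₁⁆ ∈ Oc x := by
    intro v hv
    have e : ⁅v, y₁⁆ = v * (y₁ * v⁻¹ * y₁⁻¹) := by rw [commutatorElement_def]; group
    rw [e]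
    exact mul_mem hv ((mem_normalizer_iff.1 hy₁x _).1 (inv_mem hv))
  -- the subgroup of the `v ∈ O_x` with `[v, y₁] ∈ T(x; y)`
  let M : Subgroup G :=
    { carrier := {v | v ∈ Oc x ∧ ⁅v, y₁⁆ ∈ T x y}
      one_mem' := ⟨one_mem _, by rw [commutatorElement_one_left]; exact one_mem _⟩
      mul_mem' := by
        rintro v w ⟨hv, hv'⟩ ⟨hw, hw'⟩
        refine ⟨mul_mem hv hw, ?_⟩
        have e : ⁅v * w, y₁⁆ = (v * ⁅w, y₁⁆ * v⁻¹) * ⁅v, y₁⁆ := by
          simp only [commutatorElement_def]; group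
        rw [e]
        exact mul_mem ((mem_normalizer_iff.1 (hN hv) _).1 hw') hv'
      inv_mem' := by
        rintro v ⟨hv, hv'⟩
        refine ⟨inv_mem hv, ?_⟩
        have e : ⁅v⁻¹, y₁⁆ = v⁻¹ * ⁅v, y₁⁆⁻¹ * v⁻¹⁻¹ := by
          simp only [commutatorElement_def]; group
        rw [e]
        exact (mem_normalizer_iff.1 (hN (inv_mem hv)) _).1 (inv_mem hv') }
  have hTf : ∀ f ∈ F, f ≠ 1 → Oc x ⊓ Oc f ≤ T x y := fun f hf hf1 => by
    rw [T_congr hC h hx hx1 hy hy1 hf hf1]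
    exact inf_le_T x f
  have hM : Oc x ≤ M := by
    refine h.right.le_of_forall (Oc_odd x) hFx fun f hf hf1 v hv => ?_
    refine ⟨hv.1, hTf f hf hf1 ⟨hconj v hv.1, h1 f hf hf1 v hv.1 ?_⟩⟩
    exact mem_centralizer_singleton.1 hv.2
  refine sup_le ?_ ?_
  · rw [Subgroup.commutator_le]
    intro v hv w hw
    rcases Fours.zpowers_eq_of_sq hsq hw with rfl | rfl
    · rw [commutatorElement_one_right]; exact one_mem _
    · exact (hM hv).2
  · refine h.right.le_of_forall (Odd.of_dvd_nat (Oc_odd x) (card_dvd_of_le inf_le_left))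
      (le_normalizer_inf hFx hFy) fun f hf hf1 v hv => ?_
    exact hTf f hf hf1 ⟨hv.1.1, h2 f hf hf1 v hv.1.1 hv.1.2 (mem_centralizer_singleton.1 hv.2)⟩

end

/-- If `W(x, y) = 1` then `y` centralises `O_x` and `O_x ∩ O_y = 1`. -/
theorem of_wab_eq_bot {x y : G} (hW : Wab x y = ⊥) :
    (∀ v ∈ Oc x, v * y = y * v) ∧ Oc x ⊓ Oc y = ⊥ := by
  have hT : T x y ≤ ⊥ := by
    rw [← hW]
    exact le_sup_left.trans le_sup_left
  constructor
  · intro v hv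
    have h1 : ⁅v, y⁆ ∈ T x y := mem_sup_left (commutator_mem_commutator hv (mem_zpowers y))
    have h2 : ⁅v, y⁆ = 1 := mem_bot.1 (hT h1)
    exact commutatorElement_eq_one_iff_mul_comm.1 h2
  · exact le_bot_iff.1 ((inf_le_T x y).trans hT)

end Cfsg.Agent.ProdFusion.Functor
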