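import Cfsg.Agent.ProdFusion.Functor
import Cfsg.Agent.SignalizersComponents.SolFunctorTwo
import Cfsg.Agent.S0205
import Cfsg.Agent.S1330

/-!
# Completeness of the core-separated signalizer functors

`complete : Complete G`: every functor of S1330 is complete, from S1330, the odd order theorem (S0205) and the solvable
signalizer functor theorem for the prime 2 (`SolFunctorTwo.solvable_signalizer_functor_two`).
-/

set_option autoImplicit false
set_option linter.style.haveILetI false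
set_option maxHeartbeats 400000

namespace Cfsg.Agent.ProdFusion.FunctorComplete

open Subgroup
open Cfsg.Agent.TwoFusion.ClosedFunctor

theorem complete {G : Type*} [Group G] [Finite G] : Complete G := by
  classical
  haveI : Fact (Nat.Prime 2) := ⟨Nat.prime_two⟩
  intro E F hcs
  obtain ⟨hC, hp, hinv, hbal⟩ := Cfsg.Agent.S1330.result E F hcs
  have hcomm : ∀ a ∈ E ⊔ F, ∀ b ∈ E ⊔ F, a * b = b * a := by
    obtain ⟨hE, hF, -, -, -, -, hEF, -⟩ := hcs
    have hEc : ∀ x ∈ E, ∀ y ∈ E, x * y = y * x := fun x hx y hy =>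
      congrArg Subtype.val (hE.1.is_comm.comm (⟨x, hx⟩ : E) ⟨y, hy⟩)
    have hFc : ∀ x ∈ F, ∀ y ∈ F, x * y = y * x := fun x hx y hy =>
      congrArg Subtype.val (hF.1.is_comm.comm (⟨x, hx⟩ : F) ⟨y, hy⟩)
    intro a ha b hb
    obtain ⟨x, hx, y, hy, rfl⟩ := (mem_sup_of_comm hEF).1 ha
    obtain ⟨x', hx', y', hy', rfl⟩ := (mem_sup_of_comm hEF).1 hb
    have e1 := hEF x' hx' y hy
    have e2 := hEF x hx y' hy'
    have e3 := hEc x hx x' hx'
    have e4 := hFc y hy y' hy'
    calc x * y * (x' * y') = x * (y * x') * y' := by group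
      _ = (x * x') * (y * y') := by rw [← e1]; group
      _ = (x' * x) * (y' * y) := by rw [e3, e4]
      _ = x' * (x * y') * y := by group
      _ = x' * y' * (x * y) := by rw [e2]; group
  have hexp : ∀ a ∈ E ⊔ F, a ^ 2 = 1 := by
    obtain ⟨hE, hF, -, -, -, -, hEF, -⟩ := hcs
    intro a ha
    obtain ⟨x, hx, y, hy, rfl⟩ := (mem_sup_of_comm hEF).1 ha
    have c : Commute x y := hEF x hx y hy
    rw [c.mul_pow, hE.2 x hx, hF.2 y hy, one_mul]
  have hcard : 2 ^ 3 ≤ Nat.card (E ⊔ F : Subgroup G) := by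
    obtain ⟨hE, hF, hE4, hF4, -, hinf, hEF, -⟩ := hcs
    have hinj : Function.Injective (fun p : E × F => (⟨(p.1 : G) * p.2,
        mul_mem (mem_sup_left p.1.2) (mem_sup_right p.2.2)⟩ : (E ⊔ F : Subgroup G))) := by
      rintro ⟨x, y⟩ ⟨x', y'⟩ hxy
      have h1 : (x : G) * y = x' * y' := congrArg Subtype.val hxy
      have h2 : (x' : G)⁻¹ * x = y' * (y : G)⁻¹ := by
        rw [inv_mul_eq_iff_eq_mul, ← mul_assoc, ← h1]; group
      have h3 : (x' : G)⁻¹ * x ∈ E ⊓ F :=
        mem_inf.2 ⟨E.mul_mem (E.inv_mem x'.2) x.2, by rw [h2]; exact F.mul_mem y'.2 (F.inv_mem y.2)⟩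
      rw [hinf, mem_bot] at h3
      have h4 : (x' : G) = x := inv_mul_eq_one.1 h3
      rw [h3] at h2
      have h5 : (y' : G) = y := mul_inv_eq_one.1 h2.symm
      exact Prod.ext (Subtype.ext h4.symm) (Subtype.ext h5.symm)
    have h1 := Nat.card_le_card_of_injective _ hinj
    rw [Nat.card_prod, hE4, hF4] at h1
    omega
  have hsolv : ∀ a ∈ E ⊔ F, a ≠ 1 → Group.IsSolvable (theta E F a) := by
    intro a ha ha1
    refine Cfsg.Agent.S0205.result ?_
    have := hp a ha ha1
    rw [← Nat.not_even_iff_odd, even_iff_two_dvd]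
    exact this
  obtain ⟨h1, h2, -⟩ := Cfsg.Agent.SignalizersComponents.SolFunctorTwo.solvable_signalizer_functor_two (E ⊔ F)
    hcomm hexp hcard (theta E F) hC hp hinv hsolv hbal
  refine ⟨?_, h2, ?_⟩
  · rw [← Nat.not_even_iff_odd, even_iff_two_dvd]
    exact h1
  · refine Cfsg.Agent.TwoFusion.ClosedFour.le_normalizer_of_conj fun g hg x hx => ?_
    have h3 : Vc E F ≤ (Vc E F).comap (MulAut.conj g).toMonoidHom := by
      refine iSup_le fun a => ?_
      intro y hy
      rw [mem_comap]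
      exact (le_iSup (fun a : {a : G // a ∈ E ⊔ F ∧ a ≠ 1} => theta E F a) a) (hinv a a.2.1 a.2.2 g hg y hy)
    exact h3 hx

end Cfsg.Agent.ProdFusion.FunctorComplete
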