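import Mathlib

/-!
# Sets of involutions with one fixed point (the "one class" lemma)

`K` acts on `Φ`.  If the elements of a conjugation invariant set `D` of involutions, and the products of two distinct
commuting elements of `D`, have exactly one fixed point, then two elements of `D` with different fixed points have a
product of odd order and so are conjugate.  With a larger closed set `J` of involutions (products of commuting elements
of `J` are in `J`) this gives: all elements of `J` have the same fixed point, as soon as `J` is not one class and the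
elements of `D` commuting with a given `t ∈ J` are not one class under the centralizer of `t`.
-/

set_option autoImplicit false

namespace Cfsg.Agent.ProdFusion.OneClass

open Subgroup

variable {K : Type*} [Group K]

/-! ### Dihedral groups -/

theorem mul_pow_eq {d e : K} (hd : d * d = 1) (he : e * e = 1) (j : ℕ) :
    (d * e) ^ j * d * ((d * e) ^ j)⁻¹ = (d * e) ^ (2 * j) * d := by
  have hdi : d⁻¹ = d := inv_eq_of_mul_eq_one_left hd
  have hei : e⁻¹ = e := inv_eq_of_mul_eq_one_left he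
  have h1 : d * ((d * e) ^ j)⁻¹ = (d * e) ^ j * d := by
    have h2 : (d * e)⁻¹ = d⁻¹ * (d * e) * d := by
      rw [mul_inv_rev, hdi, hei]
      calc e * d = (d * d) * e * d := by rw [hd, one_mul]
        _ = d * (d * e) * d := by group
    rw [← inv_pow, h2]
    have h3 : (d⁻¹ * (d * e) * d) ^ j = d⁻¹ * (d * e) ^ j * d := by
      induction j with
      | zero => simp
      | succ n ih => rw [pow_succ, ih, pow_succ]; group
    rw [h3]
    group
  rw [mul_assoc, h1, ← mul_assoc, ← pow_add, two_mul]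

/-- Two involutions with product of odd order are conjugate in the group they generate. -/
theorem exists_conj_of_odd {d e : K} (hd : d * d = 1) (he : e * e = 1) (hodd : Odd (orderOf (d * e))) :
    ∃ c ∈ closure ({d, e} : Set K), c * d * c⁻¹ = e := by
  obtain ⟨j, hj⟩ := hodd
  refine ⟨(d * e) ^ j, ?_, ?_⟩
  · refine pow_mem (mul_mem (subset_closure (by simp)) (subset_closure (by simp))) _
  · rw [mul_pow_eq hd he]
    have h1 : (d * e) ^ (2 * j) * (d * e) = 1 := by
      rw [← pow_succ, ← hj, pow_orderOf_eq_one]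
    have h2 : (d * e) ^ (2 * j) = e⁻¹ * d⁻¹ := by
      rw [← mul_inv_rev]; exact eq_inv_of_mul_eq_one_left h1
    rw [h2]
    have hei : e⁻¹ = e := inv_eq_of_mul_eq_one_left he
    rw [hei, mul_assoc, inv_mul_cancel, mul_one]

/-- If the product of two involutions has even order, then there is a central involution `u` of the dihedral group, and
`u * d` is conjugate to `d` or to `e`. -/
theorem exists_central_of_even {d e : K} (hd : d * d = 1) (he : e * e = 1) [Finite K] (heven : Even (orderOf (d * e))) :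
    ∃ u : K, u ≠ 1 ∧ u * u = 1 ∧ u * d = d * u ∧ u * e = e * u ∧ u ∈ closure ({d, e} : Set K) ∧
      ∃ c : K, c * d * c⁻¹ = u * d ∨ c * e * c⁻¹ = u * d := by
  obtain ⟨k, hk⟩ := heven
  have hpos : 0 < orderOf (d * e) := orderOf_pos _
  have hk0 : 0 < k := by omega
  have hdi : d⁻¹ = d := inv_eq_of_mul_eq_one_left hd
  have hei : e⁻¹ = e := inv_eq_of_mul_eq_one_left he
  set u := (d * e) ^ k with hu
  have hu1 : u ≠ 1 := by
    intro h
    have := orderOf_le_of_pow_eq_one hk0 h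
    omega
  have hu2 : u * u = 1 := by
    rw [hu, ← pow_add, ← hk, pow_orderOf_eq_one]
  have hui : u⁻¹ = u := inv_eq_of_mul_eq_one_left hu2
  have hud : u * d = d * u := by
    have h1 := mul_pow_eq hd he k
    rw [two_mul, ← hk, pow_orderOf_eq_one, one_mul] at h1
    rw [← hu] at h1
    exact mul_inv_eq_iff_eq_mul.1 h1
  have hude : u * (d * e) = d * e * u := by
    rw [hu]; exact (Commute.pow_self (d * e) k).eq
  have hue : u * e = e * u := by
    have h2 : d * (u * e) = d * (e * u) := by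
      calc d * (u * e) = (d * u) * e := by group
        _ = u * (d * e) := by rw [← hud]; group
        _ = d * (e * u) := by rw [hude]; group
    exact mul_left_cancel h2
  refine ⟨u, hu1, hu2, hud, hue, ?_, ?_⟩
  · exact pow_mem (mul_mem (subset_closure (by simp)) (subset_closure (by simp))) _
  · obtain ⟨j, hj | hj⟩ := Nat.even_or_odd' k
    · refine ⟨(d * e) ^ j, Or.inl ?_⟩
      rw [mul_pow_eq hd he, ← hj]
    · refine ⟨(d * e) ^ j * d, Or.inr ?_⟩
      have h3 : (d * e) ^ j * d * e * ((d * e) ^ j * d)⁻¹ = (d * e) * ((d * e) ^ j * d * ((d * e) ^ j)⁻¹) := by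
        have h4 : (d * e) ^ j * (d * e) = (d * e) * (d * e) ^ j := (Commute.pow_self (d * e) j).eq
        calc (d * e) ^ j * d * e * ((d * e) ^ j * d)⁻¹ = ((d * e) ^ j * (d * e)) * d⁻¹ * ((d * e) ^ j)⁻¹ := by group
          _ = (d * e) * ((d * e) ^ j * d * ((d * e) ^ j)⁻¹) := by rw [h4, hdi]; group
      rw [h3, mul_pow_eq hd he, ← mul_assoc, ← pow_succ', ← hj]

/-! ### Sets of involutions with exactly one fixed point -/

variable {Φ : Type*} [MulAction K Φ]

/-- A conjugation invariant set of involutions with exactly one fixed point each, such that the product of two distinct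
commuting elements has at most one fixed point. -/
structure Good (Φ : Type*) [MulAction K Φ] (D : Set K) : Prop where
  conj : ∀ d ∈ D, ∀ g : K, g * d * g⁻¹ ∈ D
  sq : ∀ d ∈ D, d * d = 1
  exists_pt : ∀ d ∈ D, ∃ φ : Φ, d • φ = φ
  unique : ∀ d ∈ D, ∀ φ ψ : Φ, d • φ = φ → d • ψ = ψ → φ = ψ
  unique_mul : ∀ d ∈ D, ∀ e ∈ D, d * e = e * d → d ≠ e → ∀ φ ψ : Φ, (d * e) • φ = φ → (d * e) • ψ = ψ → φ = ψ

namespace Good

variable {D : Set K} (h : Good Φ D)
include h

/-- An element commuting with `d ∈ D` fixes the fixed point of `d`. -/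
theorem smul_eq {d t : K} (hd : d ∈ D) (ht : t * d = d * t) {φ : Φ} (hφ : d • φ = φ) : t • φ = φ := by
  refine h.unique d hd _ _ ?_ hφ
  rw [← mul_smul, ← ht, mul_smul, hφ]

theorem odd_of_ne [Finite K] {d e : K} (hd : d ∈ D) (he : e ∈ D) {φ ψ : Φ} (hφ : d • φ = φ) (hψ : e • ψ = ψ)
    (hne : φ ≠ ψ) : Odd (orderOf (d * e)) := by
  by_contra hodd
  rw [Nat.not_odd_iff_even] at hodd
  obtain ⟨u, hu1, hu2, hud, hue, -, c, hc⟩ := exists_central_of_even (h.sq d hd) (h.sq e he) hodd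
  have hudD : u * d ∈ D := by
    rcases hc with hc | hc
    · rw [← hc]; exact h.conj d hd c
    · rw [← hc]; exact h.conj e he c
  have h1 : d * (u * d) = u := by
    rw [hud, ← mul_assoc, h.sq d hd, one_mul]
  have h2 : d * (u * d) = (u * d) * d := by
    rw [h1, mul_assoc, h.sq d hd, mul_one]
  have h3 : d ≠ u * d := by
    intro e1
    exact hu1 (mul_eq_right.1 e1.symm)
  refine hne (h.unique_mul d hd _ hudD h2 h3 φ ψ ?_ ?_)
  · rw [h1]; exact h.smul_eq hd hud hφ
  · rw [h1]; exact h.smul_eq he hue hψ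

/-- If the elements of `D ∩ C` do not have all the same fixed point, then they are conjugate in `C`. -/
theorem exists_conj [Finite K] (C : Subgroup K) {d₀ e₀ : K} (hd₀ : d₀ ∈ D) (he₀ : e₀ ∈ D) (hd₀C : d₀ ∈ C)
    (he₀C : e₀ ∈ C) {φ ψ : Φ} (hφ : d₀ • φ = φ) (hψ : e₀ • ψ = ψ) (hne : φ ≠ ψ) {d e : K} (hd : d ∈ D) (he : e ∈ D)
    (hdC : d ∈ C) (heC : e ∈ C) : ∃ c ∈ C, c * d * c⁻¹ = e := by
  have key : ∀ d ∈ D, ∀ e ∈ D, d ∈ C → e ∈ C → ∀ φ ψ : Φ, d • φ = φ → e • ψ = ψ → φ ≠ ψ → ∃ c ∈ C, c * d * c⁻¹ = e := by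
    intro d hd e he hdC heC φ ψ hφ hψ hne
    obtain ⟨c, hc, hce⟩ := exists_conj_of_odd (h.sq d hd) (h.sq e he) (h.odd_of_ne hd he hφ hψ hne)
    refine ⟨c, ?_, hce⟩
    have : closure ({d, e} : Set K) ≤ C := by
      rw [closure_le]
      rintro x (rfl | rfl)
      · exact hdC
      · exact heC
    exact this hc
  obtain ⟨α, hα⟩ := h.exists_pt d hd
  obtain ⟨β, hβ⟩ := h.exists_pt e he
  by_cases hαβ : α = β
  · -- choose `f` with a different fixed point
    obtain ⟨f, hf, hfC, γ, hγ, hγα⟩ : ∃ f ∈ D, f ∈ C ∧ ∃ γ : Φ, f • γ = γ ∧ γ ≠ α := by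
      by_cases h1 : φ = α
      · exact ⟨e₀, he₀, he₀C, ψ, hψ, fun h2 => hne (h1.trans h2.symm)⟩
      · exact ⟨d₀, hd₀, hd₀C, φ, hφ, h1⟩
    obtain ⟨c₁, hc₁, e₁⟩ := key d hd f hf hdC hfC α γ hα hγ (Ne.symm hγα)
    obtain ⟨c₂, hc₂, e₂⟩ := key f hf e he hfC heC γ β hγ hβ (hαβ ▸ hγα)
    refine ⟨c₂ * c₁, mul_mem hc₂ hc₁, ?_⟩
    rw [← e₂, ← e₁]; group
  · exact key d hd e he hdC heC α β hα hβ hαβ

end Good

/-- **The one class lemma.** -/
theorem fixed_eq [Finite K] {D J : Set K} (hD : Good Φ D) (hJconj : ∀ t ∈ J, ∀ g : K, g * t * g⁻¹ ∈ J)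
    (hJsq : ∀ t ∈ J, t * t = 1) (hJmul : ∀ a ∈ J, ∀ b ∈ J, a * b = b * a → a ≠ b → a * b ∈ J)
    (hpt : ∀ t ∈ J, ∀ φ : Φ, t • φ = φ → ∃ d ∈ D, d * t = t * d ∧ d • φ = φ)
    (hnc : ∀ t ∈ J, ∃ d ∈ D, ∃ e ∈ D, d * t = t * d ∧ e * t = t * e ∧ ∀ c : K, c * t = t * c → c * d * c⁻¹ ≠ e)
    (hne : ∃ s ∈ J, ∃ t ∈ J, ∀ c : K, c * s * c⁻¹ ≠ t) {s t : K} (hs : s ∈ J) (ht : t ∈ J) {φ ψ : Φ}
    (hφ : s • φ = φ) (hψ : t • ψ = ψ) : φ = ψ := by
  have huniq : ∀ t ∈ J, ∀ φ ψ : Φ, t • φ = φ → t • ψ = ψ → φ = ψ := by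
    intro t ht φ ψ hφ hψ
    by_contra hφψ
    obtain ⟨d₀, hd₀, hd₀t, hd₀φ⟩ := hpt t ht φ hφ
    obtain ⟨e₀, he₀, he₀t, he₀ψ⟩ := hpt t ht ψ hψ
    obtain ⟨d, hd, e, he, hdt, het, hde⟩ := hnc t ht
    have hmem : ∀ x : K, x * t = t * x → x ∈ centralizer ({t} : Set K) := fun x hx =>
      mem_centralizer_iff.2 fun y hy => by rw [Set.mem_singleton_iff.1 hy]; exact hx.symm
    obtain ⟨c, hc, hce⟩ := hD.exists_conj (centralizer ({t} : Set K)) hd₀ he₀ (hmem _ hd₀t) (hmem _ he₀t) hd₀φ he₀ψ hφψ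
      hd he (hmem _ hdt) (hmem _ het)
    exact hde c (mem_centralizer_iff.1 hc t rfl).symm hce
  have hJ : Good Φ J :=
    { conj := hJconj
      sq := hJsq
      exists_pt := by
        intro t ht
        obtain ⟨d, hd, -, -, hdt, -, -⟩ := hnc t ht
        obtain ⟨φ, hφ⟩ := hD.exists_pt d hd
        exact ⟨φ, hD.smul_eq hd hdt.symm hφ⟩
      unique := huniq
      unique_mul := fun a ha b hb hab hne' φ ψ h1 h2 => huniq _ (hJmul a ha b hb hab hne') φ ψ h1 h2 }
  by_contra hφψ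
  obtain ⟨s', hs', t', ht', hst⟩ := hne
  obtain ⟨c, -, hc⟩ := hJ.exists_conj ⊤ hs ht (mem_top _) (mem_top _) hφ hψ hφψ hs' ht' (mem_top _) (mem_top _)
  exact hst c hc

end Cfsg.Agent.ProdFusion.OneClass
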