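import Mathlib
import Cfsg.Prelude.Def_TwoFusion
import Cfsg.Agent.Transfer.AlperinFusion
import Cfsg.Agent.Lib.GoldschmidtFusion

/-!
# Fusion of two factors

`S = P₁ × P₂` is a Sylow 2-subgroup of a finite group, and the set `P₁ ∪ P₂` is closed under fusion in `S`.
Then `P₁` and `P₂` are strongly closed in `S`.
-/

set_option autoImplicit false
set_option linter.style.haveILetI false

namespace Cfsg.Agent.ProdFusion.TwoFactors

open Subgroup
open Cfsg.Agent.Lib.GoldschmidtFusion (mem_map_conj conj_mem_map_conj card_map_conj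
  mem_normalizer_iff_map_conj map_conj_map_conj)

variable {G : Type*} [Group G]

/-- A subgroup contained in the union of two subgroups is contained in one of them (for conjugates). -/
theorem le_or_le_of_forall {D P₁ P₂ : Subgroup G} (h : ∀ x ∈ D, x ∈ P₁ ∨ x ∈ P₂) : D ≤ P₁ ∨ D ≤ P₂ := by
  by_contra hcon
  rw [not_or, SetLike.not_le_iff_exists, SetLike.not_le_iff_exists] at hcon
  obtain ⟨⟨x, hx, hx1⟩, ⟨y, hy, hy2⟩⟩ := hcon
  have hx2 := (h x hx).resolve_left hx1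
  have hy1 := (h y hy).resolve_right hy2
  rcases h (x * y) (mul_mem hx hy) with h1 | h1
  · exact hx1 ((mul_mem_cancel_right hy1).1 h1)
  · exact hy2 ((mul_mem_cancel_left hx2).1 h1)

section Main

variable [Finite G] (S : Sylow 2 G) {P₁ P₂ : Subgroup G}

theorem step (hn₁ : (S : Subgroup G) ≤ normalizer (P₁ : Set G)) (hd : P₁ ⊓ P₂ = ⊥)
    (hcl : ∀ x : G, (x ∈ P₁ ∨ x ∈ P₂) → ∀ g : G, g * x * g⁻¹ ∈ S → g * x * g⁻¹ ∈ P₁ ∨ g * x * g⁻¹ ∈ P₂)
    {Q : Subgroup G} (hQS : Q ≤ S)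
    (hQ : ¬ 2 ∣ ((S : Subgroup G) ⊓ normalizer (Q : Set G)).relIndex (normalizer (Q : Set G)))
    {n : G} (hn : n ∈ normalizer (Q : Set G)) {a : G} (haQ : a ∈ Q) (ha : a ∈ P₁) :
    n * a * n⁻¹ ∈ P₁ := by
  classical
  have hnQ : ∀ m ∈ normalizer (Q : Set G), ∀ y ∈ Q, m * y * m⁻¹ ∈ Q := fun m hm y hy =>
    (mem_normalizer_iff.1 hm y).1 hy
  by_contra hna
  -- the two parts of `Q`
  set D₁ : Subgroup G := Q ⊓ P₁ with hD₁
  set D₂ : Subgroup G := Q ⊓ P₂ with hD₂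
  -- every element of `N(Q)` maps `D₁` and `D₂` into one of them
  have key : ∀ m ∈ normalizer (Q : Set G), ∀ D : Subgroup G, D ≤ Q → (∀ x ∈ D, x ∈ P₁ ∨ x ∈ P₂) →
      D.map (MulAut.conj m).toMonoidHom ≤ D₁ ∨ D.map (MulAut.conj m).toMonoidHom ≤ D₂ := by
    intro m hm D hDQ hDP
    have h3 : D.map (MulAut.conj m).toMonoidHom ≤ Q := by
      rintro _ ⟨x, hx, rfl⟩
      exact hnQ m hm x (hDQ hx)
    have h4 : ∀ x ∈ D.map (MulAut.conj m).toMonoidHom, x ∈ P₁ ∨ x ∈ P₂ := by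
      rintro _ ⟨x, hx, rfl⟩
      exact hcl x (hDP x hx) m (hQS (hnQ m hm x (hDQ hx)))
    rcases le_or_le_of_forall h4 with h5 | h5
    · exact Or.inl (le_inf h3 h5)
    · exact Or.inr (le_inf h3 h5)
  have key₁ := fun m hm => key m hm D₁ inf_le_left fun x hx => Or.inl (mem_inf.1 hx).2
  have key₂ := fun m hm => key m hm D₂ inf_le_left fun x hx => Or.inr (mem_inf.1 hx).2
  have hdisj : ∀ x, x ∈ D₁ → x ∈ D₂ → x = 1 := by
    intro x hx1 hx2
    have : x ∈ P₁ ⊓ P₂ := mem_inf.2 ⟨(mem_inf.1 hx1).2, (mem_inf.1 hx2).2⟩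
    rw [hd] at this
    exact mem_bot.1 this
  have haD : a ∈ D₁ := mem_inf.2 ⟨haQ, ha⟩
  have h1' : D₁.map (MulAut.conj n).toMonoidHom ≤ D₂ := by
    rcases key₁ n hn with h3 | h3
    · exact absurd (mem_inf.1 (h3 (conj_mem_map_conj haD n))).2 hna
    · exact h3
  have h2' : D₂.map (MulAut.conj n).toMonoidHom ≤ D₁ := by
    rcases key₂ n hn with h3 | h3
    · exact h3
    · exfalso
      have h4 : D₂.map (MulAut.conj n).toMonoidHom = D₂ :=
        eq_of_le_of_card_ge h3 (by rw [card_map_conj])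
      have h5 : n * a * n⁻¹ ∈ D₂.map (MulAut.conj n).toMonoidHom := by
        rw [h4]; exact h1' (conj_mem_map_conj haD n)
      rw [mem_map_conj] at h5
      have e : n⁻¹ * (n * a * n⁻¹) * n = a := by group
      rw [e] at h5
      have h6 := hdisj a haD h5
      rw [h6] at hna
      apply hna
      have e : n * 1 * n⁻¹ = 1 := by group
      rw [e]; exact one_mem _
  have hcard : Nat.card D₁ = Nat.card D₂ := by
    apply le_antisymm
    · have := Subgroup.card_le_of_le h1'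
      rwa [card_map_conj] at this
    · have := Subgroup.card_le_of_le h2'
      rwa [card_map_conj] at this
  have hn1 : D₁.map (MulAut.conj n).toMonoidHom = D₂ :=
    eq_of_le_of_card_ge h1' (by rw [card_map_conj, hcard])
  have hn2 : D₂.map (MulAut.conj n).toMonoidHom = D₁ :=
    eq_of_le_of_card_ge h2' (by rw [card_map_conj, hcard])
  have hne : D₁ ≠ D₂ := by
    intro h3
    have h4 := hdisj a haD (h3 ▸ haD)
    rw [h4] at hna
    apply hna
    have e : n * 1 * n⁻¹ = 1 := by group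
    rw [e]; exact one_mem _
  have dich : ∀ m ∈ normalizer (Q : Set G), D₁.map (MulAut.conj m).toMonoidHom = D₁ ∨
      D₁.map (MulAut.conj m).toMonoidHom = D₂ := by
    intro m hm
    rcases key₁ m hm with h3 | h3
    · exact Or.inl (eq_of_le_of_card_ge h3 (by rw [card_map_conj]))
    · exact Or.inr (eq_of_le_of_card_ge h3 (by rw [card_map_conj, hcard]))
  have dich2 : ∀ m ∈ normalizer (Q : Set G), D₂.map (MulAut.conj m).toMonoidHom = D₁ ∨
      D₂.map (MulAut.conj m).toMonoidHom = D₂ := by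
    intro m hm
    rcases key₂ m hm with h3 | h3
    · exact Or.inl (eq_of_le_of_card_ge h3 (by rw [card_map_conj, hcard]))
    · exact Or.inr (eq_of_le_of_card_ge h3 (by rw [card_map_conj]))
  have hinj : ∀ (m : G) (A B : Subgroup G), A.map (MulAut.conj m).toMonoidHom =
      B.map (MulAut.conj m).toMonoidHom → A = B := fun m A B h3 =>
    Subgroup.map_injective (MulAut.conj m).injective h3
  -- the stabilizer of `D₁` in `N(Q)`
  set H : Subgroup G := normalizer (Q : Set G) with hH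
  set M : Subgroup G := H ⊓ normalizer (D₁ : Set G) with hM
  have hMidx : M.relIndex H = 2 := by
    rw [Subgroup.relIndex, Subgroup.index_eq_two_iff]
    refine ⟨⟨n, hn⟩, fun b => ?_⟩
    have hb := b.2
    have e1 : (b * ⟨n, hn⟩ ∈ M.subgroupOf H) ↔ D₂.map (MulAut.conj (b : G)).toMonoidHom = D₁ := by
      rw [mem_subgroupOf, hM, mem_inf, mem_normalizer_iff_map_conj (A := D₁)]
      have : ((b * ⟨n, hn⟩ : H) : G) = (b : G) * n := rfl
      rw [this, ← map_conj_map_conj D₁, hn1]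
      exact ⟨fun h3 => h3.2, fun h3 => ⟨mul_mem hb hn, h3⟩⟩
    have e2 : (b ∈ M.subgroupOf H) ↔ D₁.map (MulAut.conj (b : G)).toMonoidHom = D₁ := by
      rw [mem_subgroupOf, hM, mem_inf, mem_normalizer_iff_map_conj (A := D₁)]
      exact ⟨fun h3 => h3.2, fun h3 => ⟨hb, h3⟩⟩
    rw [e1, e2]
    rcases dich b hb with h3 | h3
    · right
      refine ⟨h3, fun h4 => hne ?_⟩
      exact hinj b _ _ (h3.trans h4.symm)
    · left
      constructor
      · rcases dich2 b hb with h4 | h4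
        · exact h4
        · exact absurd (hinj b _ _ (h3.trans h4.symm)) hne
      · intro h4
        exact hne (h4.symm.trans h3)
  have hSM : (S : Subgroup G) ⊓ H ≤ M := by
    intro s hs'
    rw [mem_inf] at hs'
    rw [hM, mem_inf]
    refine ⟨hs'.2, ?_⟩
    have hsP : ∀ y ∈ P₁, s * y * s⁻¹ ∈ P₁ := fun y hy => (mem_normalizer_iff.1 (hn₁ hs'.1) y).1 hy
    rw [mem_normalizer_iff_map_conj]
    refine eq_of_le_of_card_ge ?_ (by rw [card_map_conj])
    rintro _ ⟨y, hy, rfl⟩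
    exact mem_inf.2 ⟨hnQ s hs'.2 y (mem_inf.1 hy).1, hsP y (mem_inf.1 hy).2⟩
  have h9 := Subgroup.relIndex_dvd_of_le_left H hSM
  exact hQ ((dvd_of_eq hMidx.symm).trans h9)

/-- `P₁` is closed under fusion (general form: `S` normalizes `P₁`). -/
theorem conj_mem_of_normal (h1 : P₁ ≤ S) (hn₁ : (S : Subgroup G) ≤ normalizer (P₁ : Set G)) (hd : P₁ ⊓ P₂ = ⊥)
    (hcl : ∀ x : G, (x ∈ P₁ ∨ x ∈ P₂) → ∀ g : G, g * x * g⁻¹ ∈ S → g * x * g⁻¹ ∈ P₁ ∨ g * x * g⁻¹ ∈ P₂)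
    {x g : G} (hx : x ∈ P₁) (hg : g * x * g⁻¹ ∈ S) : g * x * g⁻¹ ∈ P₁ := by
  haveI : Fact (Nat.Prime 2) := ⟨Nat.prime_two⟩
  have h3 := Cfsg.Agent.Transfer.AlperinFusion.rel_of_conj (P := S) (r := fun a b => a ∈ P₁ → b ∈ P₁)
    (fun a _ h => h) (fun a b c h4 h5 h6 => h5 (h4 h6)) (by
      intro Q hQ y hy _ a ha haP
      have h4 : y⁻¹ ∈ normalizer ((((S : Subgroup G) ⊓ (Q : Subgroup G)) : Subgroup G) : Set G) := inv_mem hy
      have h5 := step S hn₁ hd hcl (inf_le_left : (S : Subgroup G) ⊓ Q ≤ S) hQ.1 h4 ha haP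
      rwa [inv_inv] at h5)
    (a := x) (g := g⁻¹) (h1 hx) (by rwa [inv_inv])
  rw [inv_inv] at h3
  exact h3 hx

omit [Finite G] in
theorem le_normalizer_of_sup (hc : ∀ x ∈ P₁, ∀ y ∈ P₂, x * y = y * x) (hs : P₁ ⊔ P₂ = S) :
    (S : Subgroup G) ≤ normalizer (P₁ : Set G) := by
  rw [← hs]
  refine sup_le le_normalizer ?_
  intro y hy
  refine centralizer_le_normalizer _ ?_
  rw [mem_centralizer_iff]
  exact fun x hx => hc x hx y hy

/-- `P₁` is closed under fusion. -/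
theorem conj_mem (h1 : P₁ ≤ S) (hc : ∀ x ∈ P₁, ∀ y ∈ P₂, x * y = y * x)
    (hd : P₁ ⊓ P₂ = ⊥) (hs : P₁ ⊔ P₂ = S)
    (hcl : ∀ x : G, (x ∈ P₁ ∨ x ∈ P₂) → ∀ g : G, g * x * g⁻¹ ∈ S → g * x * g⁻¹ ∈ P₁ ∨ g * x * g⁻¹ ∈ P₂)
    {x g : G} (hx : x ∈ P₁) (hg : g * x * g⁻¹ ∈ S) : g * x * g⁻¹ ∈ P₁ :=
  conj_mem_of_normal S h1 (le_normalizer_of_sup S hc hs) hd hcl hx hg

/-- **Two factors**: if `S = P₁ × P₂` and `P₁ ∪ P₂` is closed under fusion in `S`, then `P₁` is strongly closed. -/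
theorem isStronglyClosed_left (h : Cfsg.IsInternalDirectProduct P₁ P₂ (S : Subgroup G))
    (hcl : ∀ x : G, (x ∈ P₁ ∨ x ∈ P₂) → ∀ g : G, g * x * g⁻¹ ∈ S → g * x * g⁻¹ ∈ P₁ ∨ g * x * g⁻¹ ∈ P₂) :
    Cfsg.IsStronglyClosed P₁ (S : Subgroup G) :=
  ⟨h.1, fun _ hx _ hg => conj_mem S h.1 h.2.2.1 h.2.2.2.1 h.2.2.2.2 hcl hx hg⟩

theorem isStronglyClosed_right (h : Cfsg.IsInternalDirectProduct P₁ P₂ (S : Subgroup G))
    (hcl : ∀ x : G, (x ∈ P₁ ∨ x ∈ P₂) → ∀ g : G, g * x * g⁻¹ ∈ S → g * x * g⁻¹ ∈ P₁ ∨ g * x * g⁻¹ ∈ P₂) :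
    Cfsg.IsStronglyClosed P₂ (S : Subgroup G) := by
  refine ⟨h.2.1, fun x hx g hg => ?_⟩
  exact conj_mem S h.2.1 (fun x hx y hy => (h.2.2.1 y hy x hx).symm) (by rw [inf_comm]; exact h.2.2.2.1)
    (by rw [sup_comm]; exact h.2.2.2.2) (fun x hx g hg => (hcl x hx.symm g hg).symm) hx hg

end Main

end Cfsg.Agent.ProdFusion.TwoFactors
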