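import Cfsg.Agent.TwoFusion.ClosedFam
import Cfsg.Agent.TwoFusion.ClosedZ
import Cfsg.Agent.TwoFusion.CentResidualBasic
import Cfsg.Agent.ProdFusion.TwoFactors

/-!
# Permuted product fusion: two factors (relative form)

`𝒜` is a closed family, `𝒟 ⊆ 𝒜` a conjugation invariant subset with `𝒟 ∩ S = P₁ ∪ P₂`, `P₁ ∩ P₂ = 1`, and
`𝒜 ∩ S` normalizes `P₁`.  The Sylow 2-subgroup `S` may interchange `P₁` and `P₂`.
-/

set_option autoImplicit false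
set_option linter.style.haveILetI false

namespace Cfsg.Agent.ProdFusion.TwoRel

open Subgroup
open scoped commutatorElement
open Cfsg.Agent.TwoFusion.ClosedFam
open Cfsg.Agent.TwoFusion.CentResidual (IsSyl exists_isSyl isSyl_top isSyl_of_le)
open Cfsg.Agent.ProdFusion.TwoFactors (le_or_le_of_forall)
open Cfsg.Agent.Lib.GoldschmidtFusion (mem_map_conj conj_mem_map_conj card_map_conj lt_inf_normalizer
  mem_normalizer_iff_map_conj map_conj_map_conj)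

universe u

variable {G : Type u} [Group G]

/-- Two factors, relative to the closed family `𝒜`. -/
structure Two (𝒜 𝒟 : Set G) (S : Sylow 2 G) (P₁ P₂ : Subgroup G) : Prop where
  fam : IsClosedFam 𝒜
  conj : ∀ x ∈ 𝒟, ∀ g : G, g * x * g⁻¹ ∈ 𝒟
  sub : 𝒟 ⊆ 𝒜
  le₁ : P₁ ≤ S
  le₂ : P₂ ≤ S
  inf : P₁ ⊓ P₂ = ⊥
  mem_iff : ∀ x ∈ (S : Subgroup G), x ∈ 𝒟 ↔ x ∈ P₁ ∨ x ∈ P₂
  ne₁ : P₁ ≠ ⊥
  ne₂ : P₂ ≠ ⊥
  norm : ∀ a ∈ 𝒜, a ∈ (S : Subgroup G) → ∀ x ∈ P₁, a * x * a⁻¹ ∈ P₁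

/-- `s` does not interchange the two factors of `T`. -/
def Plus (𝒟 : Set G) (T : Sylow 2 G) (s : G) : Prop :=
  ∀ x ∈ 𝒟, x ∈ (T : Subgroup G) → x * (s * x * s⁻¹) ∈ 𝒟

theorem mem_smul {T : Sylow 2 G} {g x : G} :
    x ∈ ((g • T : Sylow 2 G) : Subgroup G) ↔ g⁻¹ * x * g ∈ (T : Subgroup G) := by
  have : ((g • T : Sylow 2 G) : Subgroup G) = (T : Subgroup G).map (MulAut.conj g).toMonoidHom := rfl
  rw [this, mem_map_conj]

theorem conj_eq_iff {s x y : G} : s * x * s⁻¹ = s * y * s⁻¹ ↔ x = y :=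
  ⟨fun h => mul_left_cancel (mul_right_cancel h), fun h => by rw [h]⟩

theorem conj_eq_one {s x : G} : s * x * s⁻¹ = 1 ↔ x = 1 := by
  rw [mul_inv_eq_one, mul_eq_left]

namespace Two

variable {𝒜 𝒟 : Set G} {T S : Sylow 2 G} {P₁ P₂ : Subgroup G} (h : Two 𝒜 𝒟 T P₁ P₂)
include h

theorem conj_mem_iff {x : G} (g : G) : g * x * g⁻¹ ∈ 𝒟 ↔ x ∈ 𝒟 := by
  refine ⟨fun hx => ?_, fun hx => h.conj x hx g⟩
  have h1 := h.conj _ hx g⁻¹
  have e : g⁻¹ * (g * x * g⁻¹) * g⁻¹⁻¹ = x := by group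
  rwa [e] at h1

theorem eq_one {x : G} (h1 : x ∈ P₁) (h2 : x ∈ P₂) : x = 1 := by
  have : x ∈ P₁ ⊓ P₂ := mem_inf.2 ⟨h1, h2⟩
  rw [h.inf] at this
  exact mem_bot.1 this

theorem smul (g : G) : Two 𝒜 𝒟 (g • T) (P₁.map (MulAut.conj g).toMonoidHom)
    (P₂.map (MulAut.conj g).toMonoidHom) where
  fam := h.fam
  conj := h.conj
  sub := h.sub
  le₁ := by
    rintro _ ⟨x, hx, rfl⟩
    exact ⟨x, h.le₁ hx, rfl⟩
  le₂ := by
    rintro _ ⟨x, hx, rfl⟩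
    exact ⟨x, h.le₂ hx, rfl⟩
  inf := by
    rw [eq_bot_iff]
    intro x hx
    rw [mem_inf, mem_map_conj, mem_map_conj] at hx
    have h1 := h.eq_one hx.1 hx.2
    rw [mem_bot]
    have h2 : g⁻¹ * x * g⁻¹⁻¹ = 1 := by rw [inv_inv]; exact h1
    exact conj_eq_one.1 h2
  mem_iff := by
    intro x hx
    rw [mem_smul] at hx
    rw [mem_map_conj, mem_map_conj, ← h.mem_iff _ hx]
    have := h.conj_mem_iff (x := x) g⁻¹
    rw [inv_inv] at this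
    exact this.symm
  ne₁ := by
    intro h1
    apply h.ne₁
    rwa [Subgroup.map_eq_bot_iff_of_injective _ (MulAut.conj g).injective] at h1
  ne₂ := by
    intro h1
    apply h.ne₂
    rwa [Subgroup.map_eq_bot_iff_of_injective _ (MulAut.conj g).injective] at h1
  norm := by
    intro a ha haT x hx
    rw [mem_smul] at haT
    rw [mem_map_conj] at hx ⊢
    have h1 := h.norm (g⁻¹ * a * g) (by
      have := h.fam.conj_mem a ha g⁻¹
      rwa [inv_inv] at this) haT _ hx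
    have e : g⁻¹ * a * g * (g⁻¹ * x * g) * (g⁻¹ * a * g)⁻¹ = g⁻¹ * (a * x * a⁻¹) * g := by group
    rwa [e] at h1

theorem symm_of (hn : ∀ a ∈ 𝒜, a ∈ (T : Subgroup G) → ∀ x ∈ P₂, a * x * a⁻¹ ∈ P₂) : Two 𝒜 𝒟 T P₂ P₁ where
  fam := h.fam
  conj := h.conj
  sub := h.sub
  le₁ := h.le₂
  le₂ := h.le₁
  inf := by rw [inf_comm]; exact h.inf
  mem_iff := fun x hx => (h.mem_iff x hx).trans or_comm
  ne₁ := h.ne₂
  ne₂ := h.ne₁
  norm := hn

theorem mul_notMem {x y : G} (hx : x ∈ P₁) (hy : y ∈ P₂) (hx1 : x ≠ 1) (hy1 : y ≠ 1) : x * y ∉ 𝒟 := by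
  intro h1
  rcases (h.mem_iff _ (mul_mem (h.le₁ hx) (h.le₂ hy))).1 h1 with h2 | h2
  · exact hy1 (h.eq_one ((mul_mem_cancel_left hx).1 h2) hy)
  · exact hx1 (h.eq_one hx ((mul_mem_cancel_right hy).1 h2))

theorem mul_notMem' {x y : G} (hx : x ∈ P₂) (hy : y ∈ P₁) (hx1 : x ≠ 1) (hy1 : y ≠ 1) : x * y ∉ 𝒟 := by
  intro h1
  rcases (h.mem_iff _ (mul_mem (h.le₂ hx) (h.le₁ hy))).1 h1 with h2 | h2
  · exact hx1 (h.eq_one ((mul_mem_cancel_right hy).1 h2) hx)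
  · exact hy1 (h.eq_one hy ((mul_mem_cancel_left hx).1 h2))

variable [Finite G]

/-- An element of `T` preserves or interchanges the factors. -/
theorem dich {s : G} (hs : s ∈ (T : Subgroup G)) :
    ((∀ x ∈ P₁, s * x * s⁻¹ ∈ P₁) ∧ ∀ x ∈ P₂, s * x * s⁻¹ ∈ P₂) ∨
      ((∀ x ∈ P₁, s * x * s⁻¹ ∈ P₂) ∧ ∀ x ∈ P₂, s * x * s⁻¹ ∈ P₁) := by
  have key : ∀ D : Subgroup G, D ≤ T → (∀ x ∈ D, x ∈ 𝒟) →
      D.map (MulAut.conj s).toMonoidHom ≤ P₁ ∨ D.map (MulAut.conj s).toMonoidHom ≤ P₂ := by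
    intro D hDT hD
    apply le_or_le_of_forall
    rintro _ ⟨x, hx, rfl⟩
    exact (h.mem_iff _ (mul_mem (mul_mem hs (hDT hx)) (inv_mem hs))).1 (h.conj x (hD x hx) s)
  have h1 := key P₁ h.le₁ fun x hx => (h.mem_iff x (h.le₁ hx)).2 (Or.inl hx)
  have h2 := key P₂ h.le₂ fun x hx => (h.mem_iff x (h.le₂ hx)).2 (Or.inr hx)
  rcases h1 with h1 | h1 <;> rcases h2 with h2 | h2
  · exfalso
    have h3 : P₁.map (MulAut.conj s).toMonoidHom = P₁ :=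
      eq_of_le_of_card_ge h1 (by rw [card_map_conj])
    have h4 := h2
    rw [← h3, Subgroup.map_le_map_iff_of_injective (MulAut.conj s).injective] at h4
    exact h.ne₂ (by rw [← h.inf]; exact (inf_eq_right.2 h4).symm)
  · left
    exact ⟨fun x hx => h1 ⟨x, hx, rfl⟩, fun x hx => h2 ⟨x, hx, rfl⟩⟩
  · right
    exact ⟨fun x hx => h1 ⟨x, hx, rfl⟩, fun x hx => h2 ⟨x, hx, rfl⟩⟩
  · exfalso
    have h3 : P₂.map (MulAut.conj s).toMonoidHom = P₂ :=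
      eq_of_le_of_card_ge h2 (by rw [card_map_conj])
    have h4 := h1
    rw [← h3, Subgroup.map_le_map_iff_of_injective (MulAut.conj s).injective] at h4
    exact h.ne₁ (by rw [← h.inf]; exact (inf_eq_left.2 h4).symm)

omit [Finite G] in
theorem plus_of {s : G} (h1 : ∀ x ∈ P₁, s * x * s⁻¹ ∈ P₁) (h2 : ∀ x ∈ P₂, s * x * s⁻¹ ∈ P₂) :
    Plus 𝒟 T s := by
  intro x hx hxT
  rcases (h.mem_iff x hxT).1 hx with h3 | h3
  · exact (h.mem_iff _ (h.le₁ (mul_mem h3 (h1 x h3)))).2 (Or.inl (mul_mem h3 (h1 x h3)))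
  · exact (h.mem_iff _ (h.le₂ (mul_mem h3 (h2 x h3)))).2 (Or.inr (mul_mem h3 (h2 x h3)))

/-- The sign is determined by one element. -/
theorem plus_iff {s : G} (hs : s ∈ (T : Subgroup G)) {x : G} (hx : x ∈ 𝒟) (hxT : x ∈ (T : Subgroup G))
    (hx1 : x ≠ 1) : Plus 𝒟 T s ↔ x * (s * x * s⁻¹) ∈ 𝒟 := by
  refine ⟨fun h1 => h1 x hx hxT, fun h1 => ?_⟩
  rcases h.dich hs with h2 | h2
  · exact h.plus_of h2.1 h2.2
  · exfalso
    have hne : s * x * s⁻¹ ≠ 1 := fun e => hx1 (conj_eq_one.1 e)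
    rcases (h.mem_iff x hxT).1 hx with h3 | h3
    · exact h.mul_notMem h3 (h2.1 x h3) hx1 hne h1
    · exact h.mul_notMem' h3 (h2.2 x h3) hx1 hne h1

/-- `Plus` means normalizing `P₁`. -/
theorem plus_iff_left {s : G} (hs : s ∈ (T : Subgroup G)) : Plus 𝒟 T s ↔ ∀ x ∈ P₁, s * x * s⁻¹ ∈ P₁ := by
  constructor
  · intro h1
    rcases h.dich hs with h2 | h2
    · exact h2.1
    · exfalso
      obtain ⟨x, hx, hx1⟩ := P₁.bot_or_exists_ne_one.resolve_left h.ne₁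
      exact h.mul_notMem hx (h2.1 x hx) hx1 (fun e => hx1 (conj_eq_one.1 e))
        (h1 x ((h.mem_iff x (h.le₁ hx)).2 (Or.inl hx)) (h.le₁ hx))
  · intro h1
    rcases h.dich hs with h2 | h2
    · exact h.plus_of h2.1 h2.2
    · exfalso
      obtain ⟨x, hx, hx1⟩ := P₁.bot_or_exists_ne_one.resolve_left h.ne₁
      exact hx1 (conj_eq_one.1 (h.eq_one (h1 x hx) (h2.1 x hx)))

theorem not_plus {s : G} (hs : s ∈ (T : Subgroup G)) (h1 : ¬ Plus 𝒟 T s) :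
    (∀ x ∈ P₁, s * x * s⁻¹ ∈ P₂) ∧ ∀ x ∈ P₂, s * x * s⁻¹ ∈ P₁ := by
  rcases h.dich hs with h2 | h2
  · exact absurd (h.plus_of h2.1 h2.2) h1
  · exact h2

theorem plus_mul {s t : G} (hs : s ∈ (T : Subgroup G)) (ht : t ∈ (T : Subgroup G)) :
    Plus 𝒟 T (s * t) ↔ (Plus 𝒟 T s ↔ Plus 𝒟 T t) := by
  have e : ∀ x : G, s * t * x * (s * t)⁻¹ = s * (t * x * t⁻¹) * s⁻¹ := fun x => by group
  by_cases h1 : Plus 𝒟 T s <;> by_cases h2 : Plus 𝒟 T t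
  · have h1' := (h.plus_iff_left hs).1 h1
    have h2' := (h.plus_iff_left ht).1 h2
    have h3 : Plus 𝒟 T (s * t) := by
      rw [h.plus_iff_left (mul_mem hs ht)]
      intro x hx
      rw [e]
      exact h1' _ (h2' x hx)
    simp [h1, h2, h3]
  · have h1' := h.dich hs
    have h2' := h.not_plus ht h2
    have h3 : ¬ Plus 𝒟 T (s * t) := by
      intro h4
      rw [h.plus_iff_left (mul_mem hs ht)] at h4
      obtain ⟨x, hx, hx1⟩ := P₁.bot_or_exists_ne_one.resolve_left h.ne₁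
      have h5 := h4 x hx
      rw [e] at h5
      rcases h1' with h6 | h6
      · have h7 := h6.2 _ (h2'.1 x hx)
        have h8 := h.eq_one h5 h7
        rw [conj_eq_one, conj_eq_one] at h8
        exact hx1 h8
      · have h9 := (h.plus_iff_left hs).1 h1 x hx
        exact hx1 (conj_eq_one.1 (h.eq_one h9 (h6.1 x hx)))
    simp [h1, h2, h3]
  · have h1' := h.not_plus hs h1
    have h2' := (h.plus_iff_left ht).1 h2
    have h3 : ¬ Plus 𝒟 T (s * t) := by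
      intro h4
      rw [h.plus_iff_left (mul_mem hs ht)] at h4
      obtain ⟨x, hx, hx1⟩ := P₁.bot_or_exists_ne_one.resolve_left h.ne₁
      have h5 := h4 x hx
      rw [e] at h5
      have h8 := h.eq_one h5 (h1'.1 _ (h2' x hx))
      rw [conj_eq_one, conj_eq_one] at h8
      exact hx1 h8
    simp [h1, h2, h3]
  · have h1' := h.not_plus hs h1
    have h2' := h.not_plus ht h2
    have h3 : Plus 𝒟 T (s * t) := by
      rw [h.plus_iff_left (mul_mem hs ht)]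
      intro x hx
      rw [e]
      exact h1'.2 _ (h2'.1 x hx)
    simp [h1, h2, h3]

theorem plus_one : Plus 𝒟 T 1 := by
  rw [h.plus_iff_left (one_mem _)]
  intro x hx
  have e : (1 : G) * x * 1⁻¹ = x := by group
  rwa [e]

theorem plus_inv {s : G} (hs : s ∈ (T : Subgroup G)) : Plus 𝒟 T s⁻¹ ↔ Plus 𝒟 T s := by
  have h1 := h.plus_mul hs (inv_mem hs)
  rw [mul_inv_cancel] at h1
  have h2 := h1.1 h.plus_one
  exact h2.symm

theorem plus_fam {a : G} (ha : a ∈ 𝒜) (haT : a ∈ (T : Subgroup G)) : Plus 𝒟 T a :=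
  (h.plus_iff_left haT).2 (h.norm a ha haT)

omit [Finite G] in
theorem plus_conj (g s : G) : Plus 𝒟 (g • T) (g * s * g⁻¹) ↔ Plus 𝒟 T s := by
  constructor
  · intro h1 x hx hxT
    have h2 := h1 (g * x * g⁻¹) (h.conj x hx g) (by
      rw [mem_smul]
      have e : g⁻¹ * (g * x * g⁻¹) * g = x := by group
      rw [e]; exact hxT)
    have e : g * x * g⁻¹ * (g * s * g⁻¹ * (g * x * g⁻¹) * (g * s * g⁻¹)⁻¹) = g * (x * (s * x * s⁻¹)) * g⁻¹ := by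
      group
    rw [e, h.conj_mem_iff] at h2
    exact h2
  · intro h1 x hx hxT
    rw [mem_smul] at hxT
    have h2 := h1 (g⁻¹ * x * g) (by
      have := h.conj x hx g⁻¹
      rwa [inv_inv] at this) hxT
    have h3 := h.conj _ h2 g
    have e : g * (g⁻¹ * x * g * (s * (g⁻¹ * x * g) * s⁻¹)) * g⁻¹ = x * (g * s * g⁻¹ * x * (g * s * g⁻¹)⁻¹) := by
      group
    rwa [e] at h3

omit [Finite G] in
theorem plus_conj' (g s : G) : Plus 𝒟 (g⁻¹ • T) s ↔ Plus 𝒟 T (g * s * g⁻¹) := by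
  have h1 := h.plus_conj g⁻¹ (g * s * g⁻¹)
  have e : g⁻¹ * (g * s * g⁻¹) * g⁻¹⁻¹ = s := by group
  rw [e] at h1
  exact h1

end Two

/-! ### The sign does not depend on the Sylow subgroup -/

theorem sign_aux [Finite G] {𝒜 𝒟 : Set G} : ∀ (m : ℕ) (T T' : Sylow 2 G) (P₁ P₂ : Subgroup G),
    Two 𝒜 𝒟 T P₁ P₂ → Nat.card G ≤ Nat.card ((T : Subgroup G) ⊓ T' : Subgroup G) + m →
      ∀ s ∈ (T : Subgroup G), s ∈ (T' : Subgroup G) → (Plus 𝒟 T s ↔ Plus 𝒟 T' s) := by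
  haveI : Fact (Nat.Prime 2) := ⟨Nat.prime_two⟩
  intro m
  induction m with
  | zero =>
    intro T T' P₁ P₂ h hcard s hs hs'
    have h1 : ((T : Subgroup G) ⊓ T' : Subgroup G) = ⊤ :=
      Subgroup.eq_top_of_le_card _ (by simpa using hcard)
    have h2 : T = T' := by
      apply Sylow.ext
      rw [inf_eq_top_iff] at h1
      rw [h1.1, h1.2]
    rw [h2]
  | succ m ih =>
    intro T T' P₁ P₂ h hcard s hs hs'
    by_cases hTT : T = T'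
    · rw [hTT]
    set D : Subgroup G := (T : Subgroup G) ⊓ T' with hD
    set N : Subgroup G := normalizer (D : Set G) with hN
    have hD2 : IsPGroup 2 D := T.2.to_le inf_le_left
    have hDN : D ≤ N := le_normalizer
    have hDT : D < T := by
      refine lt_of_le_of_ne inf_le_left fun he => hTT ?_
      exact Sylow.ext (T.is_maximal' T'.2 (inf_eq_left.1 he)).symm
    have hDT' : D < T' := by
      refine lt_of_le_of_ne inf_le_right fun he => hTT ?_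
      exact Sylow.ext (T'.is_maximal' T.2 (inf_eq_right.1 he))
    have hT1 := lt_inf_normalizer T.2 hDT
    have hT'1 := lt_inf_normalizer T'.2 hDT'
    -- the inductive hypothesis
    have ih' : ∀ (U U' : Sylow 2 G) (Q₁ Q₂ : Subgroup G), Two 𝒜 𝒟 U Q₁ Q₂ →
        (∃ a : G, a ∉ D ∧ a ∈ (U : Subgroup G) ∧ a ∈ (U' : Subgroup G)) → D ≤ U → D ≤ U' →
          ∀ s ∈ D, (Plus 𝒟 U s ↔ Plus 𝒟 U' s) := by
      intro U U' Q₁ Q₂ hU ha hDU hDU' s hs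
      refine ih U U' Q₁ Q₂ hU ?_ s (hDU hs) (hDU' hs)
      obtain ⟨a, haD, haU, haU'⟩ := ha
      have h1 : D < ((U : Subgroup G) ⊓ U' : Subgroup G) :=
        lt_of_le_of_ne (le_inf hDU hDU') fun he => haD (he ▸ mem_inf.2 ⟨haU, haU'⟩)
      have h2 : Nat.card D < Nat.card ((U : Subgroup G) ⊓ U' : Subgroup G) := by
        by_contra hcon
        exact h1.ne (Subgroup.eq_of_le_of_card_ge h1.le (not_lt.1 hcon))
      omega
    -- the Sylow subgroup `U`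
    obtain ⟨R, hTR, hR⟩ := exists_isSyl (T.2.to_le inf_le_left) (inf_le_right : (T : Subgroup G) ⊓ N ≤ N)
    obtain ⟨U, hRU⟩ := hR.two.exists_le_sylow
    have hUN : R = (U : Subgroup G) ⊓ N :=
      hR.eq_of_le (U.2.to_le inf_le_left) inf_le_right (le_inf hRU hR.le)
    have hDR : D ≤ R := hT1.le.trans hTR
    have hDU : D ≤ U := hDR.trans hRU
    obtain ⟨n, hn, hnR⟩ := hR.conj ((T' : Subgroup G) ⊓ N) (T'.2.to_le inf_le_left) inf_le_right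
    obtain ⟨g, hg⟩ := MulAction.exists_smul_eq G T U
    have hU : Two 𝒜 𝒟 U (P₁.map (MulAut.conj g).toMonoidHom) (P₂.map (MulAut.conj g).toMonoidHom) := by
      have := h.smul g
      rwa [hg] at this
    obtain ⟨g', hg'⟩ := MulAction.exists_smul_eq G T T'
    have hT' : Two 𝒜 𝒟 T' (P₁.map (MulAut.conj g').toMonoidHom) (P₂.map (MulAut.conj g').toMonoidHom) := by
      have := h.smul g'
      rwa [hg'] at this
    set Q₁ : Subgroup G := P₁.map (MulAut.conj g).toMonoidHom with hQ₁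
    set Q₂ : Subgroup G := P₂.map (MulAut.conj g).toMonoidHom with hQ₂
    have hnD : ∀ y ∈ N, ∀ d ∈ D, y * d * y⁻¹ ∈ D := fun y hy d hd => (mem_normalizer_iff.1 hy d).1 hd
    have hDU' : ∀ y ∈ N, D ≤ ((y⁻¹ • U : Sylow 2 G) : Subgroup G) := by
      intro y hy d hd
      rw [mem_smul, inv_inv]
      exact hDU (hnD y hy d hd)
    have hsD : s ∈ D := mem_inf.2 ⟨hs, hs'⟩
    have e1 : Plus 𝒟 T s ↔ Plus 𝒟 U s := by
      obtain ⟨a, ha, haD⟩ := SetLike.exists_of_lt hT1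
      exact ih' T U P₁ P₂ h ⟨a, haD, (mem_inf.1 ha).1, hRU (hTR ha)⟩ hDT.le hDU s hsD
    have e2 : Plus 𝒟 T' s ↔ Plus 𝒟 (n⁻¹ • U) s := by
      obtain ⟨a, ha, haD⟩ := SetLike.exists_of_lt hT'1
      refine ih' T' (n⁻¹ • U) _ _ hT' ⟨a, haD, (mem_inf.1 ha).1, ?_⟩ hDT'.le (hDU' n hn) s hsD
      rw [mem_smul, inv_inv]
      exact hRU (hnR a ha)
    rw [e1, e2]
    -- the family in `D`
    set E : Subgroup G := fam 𝒜 D with hE
    have hmemE : ∀ {x : G}, x ∈ E ↔ x ∈ 𝒜 ∧ x ∈ D := h.fam.mem_fam_iff hD2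
    by_cases hA : ∃ x ∈ 𝒟, x ∈ D ∧ x ≠ 1
    · obtain ⟨x, hx, hxD, hx1⟩ := hA
      have h1 := hU.plus_iff (hDU hsD) hx (hDU hxD) hx1
      have h2 := (hU.smul n⁻¹).plus_iff (hDU' n hn hsD) hx (hDU' n hn hxD) hx1
      rw [h1, h2]
    -- a larger normalized subgroup
    set A : Subgroup G := fam 𝒜 (U : Subgroup G) with hAdef
    have hmemA : ∀ {x : G}, x ∈ A ↔ x ∈ 𝒜 ∧ x ∈ (U : Subgroup G) := h.fam.mem_fam_iff U.2
    have hAU : A ≤ U := fam_le _ _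
    have hUA : (U : Subgroup G) ≤ normalizer (A : Set G) := h.fam.le_normalizer_fam _
    have hAD : ¬ A ≤ D := by
      intro hle
      apply hA
      obtain ⟨x, hx, hx1⟩ := Q₁.bot_or_exists_ne_one.resolve_left hU.ne₁
      have hx𝒟 := (hU.mem_iff x (hU.le₁ hx)).2 (Or.inl hx)
      exact ⟨x, hx𝒟, hle (hmemA.2 ⟨h.sub hx𝒟, hU.le₁ hx⟩), hx1⟩
    obtain ⟨a, haA, haN, haD⟩ : ∃ a ∈ A, a ∈ N ∧ a ∉ D := by
      have h1 : D < D ⊔ A := lt_of_le_of_ne le_sup_left fun he => hAD (he ▸ le_sup_right)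
      have h2 : IsPGroup 2 (D ⊔ A : Subgroup G) := U.2.to_le (sup_le hDU hAU)
      obtain ⟨b, hb, hbD⟩ := SetLike.exists_of_lt (lt_inf_normalizer h2 h1)
      obtain ⟨hb1, hb2⟩ := mem_inf.1 hb
      have h3 : b ∈ ((D ⊔ A : Subgroup G) : Set G) := hb1
      rw [Subgroup.coe_mul_of_left_le_normalizer_right D A (hDU.trans hUA)] at h3
      obtain ⟨d, hd, a, ha, rfl⟩ := h3
      refine ⟨a, ha, ?_, ?_⟩
      · have e : a = d⁻¹ * (d * a) := by group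
        rw [e]
        exact mul_mem (inv_mem (hDN hd)) hb2
      · intro haD
        exact hbD (mul_mem hd haD)
    have hNE : ∀ y ∈ N, ∀ x ∈ E, y * x * y⁻¹ ∈ E := by
      intro y hy x hx
      rw [hmemE] at hx ⊢
      exact ⟨h.fam.conj_mem x hx.1 y, hnD y hy x hx.2⟩
    let K : Subgroup G :=
      { carrier := {k | k ∈ N ∧ ∀ d ∈ D, k * d * k⁻¹ * d⁻¹ ∈ E}
        one_mem' := by
          refine ⟨one_mem _, fun d _ => ?_⟩
          have e : (1 : G) * d * 1⁻¹ * d⁻¹ = 1 := by group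
          rw [e]; exact one_mem _
        mul_mem' := by
          rintro x y ⟨hx, hx2⟩ ⟨hy, hy2⟩
          refine ⟨mul_mem hx hy, fun d hd => ?_⟩
          have e : x * y * d * (x * y)⁻¹ * d⁻¹ =
              (x * (y * d * y⁻¹) * x⁻¹ * (y * d * y⁻¹)⁻¹) * (y * d * y⁻¹ * d⁻¹) := by group
          rw [e]
          exact mul_mem (hx2 _ (hnD y hy d hd)) (hy2 d hd)
        inv_mem' := by
          rintro x ⟨hx, hx2⟩
          refine ⟨inv_mem hx, fun d hd => ?_⟩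
          have e : x⁻¹ * d * x⁻¹⁻¹ * d⁻¹ = (x * (x⁻¹ * d * x⁻¹⁻¹) * x⁻¹ * (x⁻¹ * d * x⁻¹⁻¹)⁻¹)⁻¹ := by group
          rw [e]
          exact inv_mem (hx2 _ (hnD x⁻¹ (inv_mem hx) d hd)) }
    have hKN : K ≤ N := fun k hk => hk.1
    have hKn : ∀ y ∈ N, ∀ k ∈ K, y * k * y⁻¹ ∈ K := by
      rintro y hy k ⟨hk, hk2⟩
      refine ⟨mul_mem (mul_mem hy hk) (inv_mem hy), fun d hd => ?_⟩
      have e : y * k * y⁻¹ * d * (y * k * y⁻¹)⁻¹ * d⁻¹ =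
          y * (k * (y⁻¹ * d * y⁻¹⁻¹) * k⁻¹ * (y⁻¹ * d * y⁻¹⁻¹)⁻¹) * y⁻¹ := by group
      rw [e]
      exact hNE y hy _ (hk2 _ (hnD y⁻¹ (inv_mem hy) d hd))
    have hNK : N ≤ normalizer (K : Set G) := by
      intro y hy
      rw [mem_normalizer_iff]
      intro x
      refine ⟨hKn y hy x, fun hx => ?_⟩
      have h1 := hKn y⁻¹ (inv_mem hy) _ hx
      have e : y⁻¹ * (y * x * y⁻¹) * y⁻¹⁻¹ = x := by group
      rwa [e] at h1
    have haK : a ∈ K := by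
      refine ⟨haN, fun d hd => hmemE.2 ⟨?_, mul_mem (hnD a haN d hd) (inv_mem hd)⟩⟩
      have h1 : a * d * a⁻¹ * d⁻¹ ∈ A := by
        have e : a * d * a⁻¹ * d⁻¹ = a * (d * a⁻¹ * d⁻¹) := by group
        rw [e]
        exact mul_mem haA ((mem_normalizer_iff.1 (hUA (hDU hd)) _).1 (inv_mem haA))
      exact (hmemA.1 h1).1
    have hsylK : IsSyl (R ⊓ K) K := hR.inf hKN hNK
    obtain ⟨k, hk, hkR⟩ := hsylK.frattini hNK hn
    set y := k * n with hy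
    have hyN : y ∈ N := mul_mem (hKN hk) hn
    have haR : a ∈ R ⊓ K := mem_inf.2 ⟨by rw [hUN]; exact mem_inf.2 ⟨hAU haA, haN⟩, haK⟩
    have hya : y * a * y⁻¹ ∈ R ⊓ K := (mem_normalizer_iff.1 hkR a).1 haR
    have e3 : Plus 𝒟 U s ↔ Plus 𝒟 (y⁻¹ • U) s := by
      refine ih' U (y⁻¹ • U) Q₁ Q₂ hU ⟨a, haD, hAU haA, ?_⟩ hDU (hDU' y hyN) s hsD
      rw [mem_smul, inv_inv]
      exact hRU (mem_inf.1 hya).1
    rw [e3, hU.plus_conj', hU.plus_conj']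
    have hd : n * s * n⁻¹ ∈ D := hnD n hn s hsD
    have hek : k * (n * s * n⁻¹) * k⁻¹ * (n * s * n⁻¹)⁻¹ ∈ E := hk.2 _ hd
    have e4 : y * s * y⁻¹ = (k * (n * s * n⁻¹) * k⁻¹ * (n * s * n⁻¹)⁻¹) * (n * s * n⁻¹) := by
      rw [hy]; group
    have hE1 := hmemE.1 hek
    rw [e4, hU.plus_mul (hDU hE1.2) (hDU hd)]
    have h5 := hU.plus_fam hE1.1 (hDU hE1.2)
    exact ⟨fun h6 => h6.1 h5, fun h6 => ⟨fun _ => h6, fun _ => h5⟩⟩

/-- The sign of `s` does not depend on the Sylow subgroup. -/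
theorem sign [Finite G] {𝒜 𝒟 : Set G} {T : Sylow 2 G} {P₁ P₂ : Subgroup G} (h : Two 𝒜 𝒟 T P₁ P₂)
    (T' : Sylow 2 G) {s : G} (hs : s ∈ (T : Subgroup G)) (hs' : s ∈ (T' : Subgroup G)) :
    Plus 𝒟 T s ↔ Plus 𝒟 T' s :=
  sign_aux (Nat.card G) T T' P₁ P₂ h (Nat.le_add_left _ _) s hs hs'

/-! ### The group generated by the family -/

/-- If `G` is generated by the family, then `S` normalizes the factors. -/
theorem plus_all [Finite G] {𝒜 𝒟 : Set G} {S : Sylow 2 G} {P₁ P₂ : Subgroup G} (h : Two 𝒜 𝒟 S P₁ P₂)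
    (hgen : fam 𝒜 ⊤ = ⊤) : ∀ s ∈ (S : Subgroup G), Plus 𝒟 S s := by
  haveI : Fact (Nat.Prime 2) := ⟨Nat.prime_two⟩
  let S₀ : Subgroup G :=
    { carrier := {s | s ∈ (S : Subgroup G) ∧ Plus 𝒟 S s}
      one_mem' := ⟨one_mem _, h.plus_one⟩
      mul_mem' := by
        rintro x y ⟨hx, hx2⟩ ⟨hy, hy2⟩
        exact ⟨mul_mem hx hy, (h.plus_mul hx hy).2 ⟨fun _ => hy2, fun _ => hx2⟩⟩
      inv_mem' := by
        rintro x ⟨hx, hx2⟩
        exact ⟨inv_mem hx, (h.plus_inv hx).2 hx2⟩ }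
  have hfoc : commutator G ⊓ (S : Subgroup G) ≤ S₀ := by
    rw [Subgroup.commutator_inf_eq_focalSubgroup S, Subgroup.focalSubgroup_def, closure_le]
    rintro g ⟨hg, x, hx, u, rfl⟩
    have e : (⁅x, u⁆ : G) = x * (u * x⁻¹ * u⁻¹) := by
      rw [commutatorElement_def]; group
    rw [e] at hg ⊢
    have hx' : x ∈ (S : Subgroup G) := hx
    have hg' : x * (u * x⁻¹ * u⁻¹) ∈ (S : Subgroup G) := hg
    have hu : u * x⁻¹ * u⁻¹ ∈ (S : Subgroup G) := by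
      have := mul_mem (inv_mem hx') hg'
      rwa [inv_mul_cancel_left] at this
    refine ⟨hg', ?_⟩
    rw [h.plus_mul hx' hu]
    have h1 : x⁻¹ ∈ ((u⁻¹ • S : Sylow 2 G) : Subgroup G) := by
      rw [mem_smul, inv_inv]
      exact hu
    have h2 := sign h (u⁻¹ • S) (inv_mem hx') h1
    rw [h.plus_conj', h.plus_inv hx'] at h2
    exact h2
  have hM : (⊤ : Subgroup G) ≤ commutator G ⊔ fam 𝒜 (S : Subgroup G) := by
    rw [← hgen, fam_le_iff]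
    intro a ha _
    obtain ⟨P, hP⟩ := (h.fam.isPGroup_zpowers ha).exists_le_sylow
    obtain ⟨g, hg⟩ := MulAction.exists_smul_eq G P S
    have h1 : g * a * g⁻¹ ∈ (S : Subgroup G) := by
      rw [← hg, mem_smul]
      have e : g⁻¹ * (g * a * g⁻¹) * g = a := by group
      rw [e]
      exact hP (mem_zpowers a)
    have h2 : g * a * g⁻¹ ∈ fam 𝒜 (S : Subgroup G) := mem_fam (h.fam.conj_mem a ha g) h1
    have h3 : g * a * g⁻¹ * a⁻¹ ∈ commutator G := by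
      have : ⁅g, a⁆ ∈ commutator G := commutator_mem_commutator (mem_top g) (mem_top a)
      rwa [commutatorElement_def] at this
    have e : a = (g * a * g⁻¹ * a⁻¹)⁻¹ * (g * a * g⁻¹) := by group
    rw [e]
    exact mul_mem (mem_sup_left (inv_mem h3)) (mem_sup_right h2)
  intro s hs
  have h1 : s ∈ ((commutator G ⊔ fam 𝒜 (S : Subgroup G) : Subgroup G) : Set G) := hM (mem_top s)
  rw [Subgroup.normal_mul] at h1
  obtain ⟨c, hc, a, ha, rfl⟩ := h1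
  have ha' := (h.fam.mem_fam_iff S.2).1 ha
  have hcS : c ∈ (S : Subgroup G) := (mul_mem_cancel_right ha'.2).1 hs
  have h2 := (hfoc (mem_inf.2 ⟨hc, hcS⟩)).2
  exact (h.plus_mul hcS ha'.2).2 ⟨fun _ => h.plus_fam ha'.1 ha'.2, fun _ => h2⟩

/-- Two commuting elements of the family lie, after conjugation, in `S`. -/
theorem exists_common [Finite G] {𝒜 : Set G} (h : IsClosedFam 𝒜) (S : Sylow 2 G) {x y : G} (hx : x ∈ 𝒜)
    (hy : y ∈ 𝒜) (hxy : x * y = y * x) :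
    ∃ g : G, g * x * g⁻¹ ∈ (S : Subgroup G) ∧ g * y * g⁻¹ ∈ (S : Subgroup G) := by
  haveI : Fact (Nat.Prime 2) := ⟨Nat.prime_two⟩
  have hn : zpowers x ≤ normalizer (zpowers y : Set G) := by
    rw [zpowers_le]
    refine centralizer_le_normalizer _ ?_
    rw [mem_centralizer_iff]
    intro z hz
    obtain ⟨n, rfl⟩ := mem_zpowers_iff.1 hz
    have h1 : Commute x y := hxy
    exact (h1.zpow_right n).eq.symm
  have hQ : IsPGroup 2 (zpowers x ⊔ zpowers y : Subgroup G) :=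
    IsPGroup.to_sup_of_normal_right' (h.isPGroup_zpowers hx) (h.isPGroup_zpowers hy) hn
  obtain ⟨P, hP⟩ := hQ.exists_le_sylow
  obtain ⟨g, hg⟩ := MulAction.exists_smul_eq G P S
  have key : ∀ z ∈ (P : Subgroup G), g * z * g⁻¹ ∈ (S : Subgroup G) := by
    intro z hz
    rw [← hg, mem_smul]
    have e : g⁻¹ * (g * z * g⁻¹) * g = z := by group
    rw [e]; exact hz
  exact ⟨g, key x (hP (mem_sup_left (mem_zpowers x))), key y (hP (mem_sup_right (mem_zpowers y)))⟩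

/-- The two families commute, if `G` is generated by the family. -/
theorem comm_of_gen [Finite G] {𝒜 𝒟 : Set G} {S : Sylow 2 G} {P₁ P₂ : Subgroup G} (h : Two 𝒜 𝒟 S P₁ P₂)
    (hO : Cfsg.oddCore G = ⊥) (hgen : fam 𝒜 ⊤ = ⊤)
    (hC1 : ∀ (𝒜 ℬ : Set G), Pair 𝒜 ℬ → ⁅fam 𝒜 ⊤, fam ℬ ⊤⁆ ≤ Cfsg.oddCore G) :
    ∀ x ∈ 𝒟, ∀ y ∈ 𝒟, x * y = y * x → x * y ∉ 𝒟 → ∀ z ∈ 𝒟, z ≠ 1 →
      (z * x = x * z ∧ z * x ∉ 𝒟) ∨ (z * y = y * z ∧ z * y ∉ 𝒟) := by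
  haveI : Fact (Nat.Prime 2) := ⟨Nat.prime_two⟩
  have hall := plus_all h hgen
  have hn₁ : (S : Subgroup G) ≤ normalizer (P₁ : Set G) := by
    intro s hs
    rw [mem_normalizer_iff_map_conj]
    refine eq_of_le_of_card_ge ?_ (by rw [card_map_conj])
    rintro _ ⟨x, hx, rfl⟩
    exact (h.plus_iff_left hs).1 (hall s hs) x hx
  have hn₂ : (S : Subgroup G) ≤ normalizer (P₂ : Set G) := by
    intro s hs
    rw [mem_normalizer_iff_map_conj]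
    refine eq_of_le_of_card_ge ?_ (by rw [card_map_conj])
    rintro _ ⟨x, hx, rfl⟩
    rcases h.dich hs with h1 | h1
    · exact h1.2 x hx
    · exfalso
      obtain ⟨z, hz, hz1⟩ := P₁.bot_or_exists_ne_one.resolve_left h.ne₁
      exact hz1 (conj_eq_one.1 (h.eq_one ((h.plus_iff_left hs).1 (hall s hs) z hz) (h1.1 z hz)))
  have hcl : ∀ x : G, (x ∈ P₁ ∨ x ∈ P₂) → ∀ g : G, g * x * g⁻¹ ∈ S → g * x * g⁻¹ ∈ P₁ ∨ g * x * g⁻¹ ∈ P₂ := by
    intro x hx g hg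
    have h1 : x ∈ 𝒟 := (h.mem_iff x (hx.elim (fun h' => h.le₁ h') (fun h' => h.le₂ h'))).2 hx
    exact (h.mem_iff _ hg).1 (h.conj x h1 g)
  have hsc₁ : Cfsg.IsStronglyClosed P₁ (S : Subgroup G) :=
    ⟨h.le₁, fun x hx g hg => TwoFactors.conj_mem_of_normal S h.le₁ hn₁ h.inf hcl hx hg⟩
  have hsc₂ : Cfsg.IsStronglyClosed P₂ (S : Subgroup G) :=
    ⟨h.le₂, fun x hx g hg => TwoFactors.conj_mem_of_normal S h.le₂ hn₂ (by rw [inf_comm]; exact h.inf)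
      (fun x hx g hg => (hcl x hx.symm g hg).symm) hx hg⟩
  set 𝒟₁ : Set G := {x | ∃ g : G, g * x * g⁻¹ ∈ P₁} with h𝒟₁
  set 𝒟₂ : Set G := {x | ∃ g : G, g * x * g⁻¹ ∈ P₂} with h𝒟₂
  have hin₁ : ∀ x ∈ 𝒟₁, ∀ g : G, g * x * g⁻¹ ∈ (S : Subgroup G) → g * x * g⁻¹ ∈ P₁ := by
    rintro x ⟨k, hk⟩ g hg
    have e : g * k⁻¹ * (k * x * k⁻¹) * (g * k⁻¹)⁻¹ = g * x * g⁻¹ := by group
    have h1 := hsc₁.2 _ hk (g * k⁻¹) (by rw [e]; exact hg)
    rwa [e] at h1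
  have hin₂ : ∀ x ∈ 𝒟₂, ∀ g : G, g * x * g⁻¹ ∈ (S : Subgroup G) → g * x * g⁻¹ ∈ P₂ := by
    rintro x ⟨k, hk⟩ g hg
    have e : g * k⁻¹ * (k * x * k⁻¹) * (g * k⁻¹)⁻¹ = g * x * g⁻¹ := by group
    have h1 := hsc₂.2 _ hk (g * k⁻¹) (by rw [e]; exact hg)
    rwa [e] at h1
  have hpair : Pair 𝒟₁ 𝒟₂ := by
    refine ⟨isClosedFam_of_isStronglyClosed S P₁ hsc₁, isClosedFam_of_isStronglyClosed S P₂ hsc₂, ?_⟩
    rintro x hx ⟨k, hk⟩
    exact conj_eq_one.1 (h.eq_one (hin₁ x hx k (h.le₂ hk)) hk)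
  have hcomm : ∀ x ∈ 𝒟₁, ∀ y ∈ 𝒟₂, x * y = y * x := by
    have h1 := hC1 _ _ hpair
    rw [hO, le_bot_iff, commutator_eq_bot_iff_le_centralizer] at h1
    intro x hx y hy
    have h2 := mem_centralizer_iff.1 (h1 (mem_fam hx (mem_top x))) y (mem_fam hy (mem_top y))
    exact h2.symm
  have hor : ∀ x ∈ 𝒟, x ∈ 𝒟₁ ∨ x ∈ 𝒟₂ := by
    intro x hx
    obtain ⟨g, hg, -⟩ := exists_common h.fam S (h.sub hx) (h.sub hx) rfl
    rcases (h.mem_iff _ hg).1 (h.conj x hx g) with h1 | h1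
    · exact Or.inl ⟨g, h1⟩
    · exact Or.inr ⟨g, h1⟩
  have hsame₁ : ∀ x ∈ 𝒟, ∀ y ∈ 𝒟, x ∈ 𝒟₁ → y ∈ 𝒟₁ → x * y = y * x → x * y ∈ 𝒟 := by
    intro x hx y hy hx1 hy1 hxy
    obtain ⟨g, hgx, hgy⟩ := exists_common h.fam S (h.sub hx) (h.sub hy) hxy
    have h1 : g * (x * y) * g⁻¹ ∈ P₁ := by
      have e : g * (x * y) * g⁻¹ = (g * x * g⁻¹) * (g * y * g⁻¹) := by group
      rw [e]
      exact mul_mem (hin₁ x hx1 g hgx) (hin₁ y hy1 g hgy)
    exact (h.conj_mem_iff g).1 ((h.mem_iff _ (h.le₁ h1)).2 (Or.inl h1))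
  have hsame₂ : ∀ x ∈ 𝒟, ∀ y ∈ 𝒟, x ∈ 𝒟₂ → y ∈ 𝒟₂ → x * y = y * x → x * y ∈ 𝒟 := by
    intro x hx y hy hx1 hy1 hxy
    obtain ⟨g, hgx, hgy⟩ := exists_common h.fam S (h.sub hx) (h.sub hy) hxy
    have h1 : g * (x * y) * g⁻¹ ∈ P₂ := by
      have e : g * (x * y) * g⁻¹ = (g * x * g⁻¹) * (g * y * g⁻¹) := by group
      rw [e]
      exact mul_mem (hin₂ x hx1 g hgx) (hin₂ y hy1 g hgy)
    exact (h.conj_mem_iff g).1 ((h.mem_iff _ (h.le₂ h1)).2 (Or.inr h1))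
  have hdiff : ∀ x ∈ 𝒟, ∀ y ∈ 𝒟, x ∈ 𝒟₁ → y ∈ 𝒟₂ → x ≠ 1 → y ≠ 1 → x * y ∉ 𝒟 := by
    intro x hx y hy hx1 hy1 hxn hyn hxy
    obtain ⟨g, hgx, hgy⟩ := exists_common h.fam S (h.sub hx) (h.sub hy) (hcomm x hx1 y hy1)
    have e : g * (x * y) * g⁻¹ = (g * x * g⁻¹) * (g * y * g⁻¹) := by group
    have h1 := h.conj _ hxy g
    rw [e] at h1
    exact h.mul_notMem (hin₁ x hx1 g hgx) (hin₂ y hy1 g hgy) (fun e => hxn (conj_eq_one.1 e))
      (fun e => hyn (conj_eq_one.1 e)) h1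
  intro x hx y hy hxy hxyn z hz hz1
  have hx1 : x ≠ 1 := by
    rintro rfl
    rw [one_mul] at hxyn
    exact hxyn hy
  have hy1 : y ≠ 1 := by
    rintro rfl
    rw [mul_one] at hxyn
    exact hxyn hx
  rcases hor x hx with hx' | hx' <;> rcases hor y hy with hy' | hy' <;> rcases hor z hz with hz' | hz'
  · exact absurd (hsame₁ x hx y hy hx' hy' hxy) hxyn
  · exact absurd (hsame₁ x hx y hy hx' hy' hxy) hxyn
  · exact Or.inr ⟨hcomm z hz' y hy', hdiff z hz y hy hz' hy' hz1 hy1⟩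
  · have h1 := hcomm x hx' z hz'
    exact Or.inl ⟨h1.symm, h1 ▸ hdiff x hx z hz hx' hz' hx1 hz1⟩
  · have h1 := hcomm z hz' x hx'
    exact Or.inl ⟨h1, hdiff z hz x hx hz' hx' hz1 hx1⟩
  · have h1 := hcomm y hy' z hz'
    exact Or.inr ⟨h1.symm, h1 ▸ hdiff y hy z hz hy' hz' hy1 hz1⟩
  · exact absurd (hsame₂ x hx y hy hx' hy' hxy) hxyn
  · exact absurd (hsame₂ x hx y hy hx' hy' hxy) hxyn

/-! ### The general case -/

/-- **Two factors, relative form.** -/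
theorem two_of [Finite G] {𝒜 𝒟 : Set G} {S : Sylow 2 G} {P₁ P₂ : Subgroup G} (h : Two 𝒜 𝒟 S P₁ P₂)
    (hO : Cfsg.oddCore G = ⊥)
    (hC1 : ∀ (H : Type u) [Group H] [Finite H] (𝒜 ℬ : Set H), Pair 𝒜 ℬ →
      ⁅fam 𝒜 ⊤, fam ℬ ⊤⁆ ≤ Cfsg.oddCore H) :
    ∀ x ∈ 𝒟, ∀ y ∈ 𝒟, x * y = y * x → x * y ∉ 𝒟 → ∀ z ∈ 𝒟, z ≠ 1 →
      (z * x = x * z ∧ z * x ∉ 𝒟) ∨ (z * y = y * z ∧ z * y ∉ 𝒟) := by
  haveI : Fact (Nat.Prime 2) := ⟨Nat.prime_two⟩
  set N : Subgroup G := fam 𝒜 ⊤ with hN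
  haveI hNn : N.Normal := h.fam.fam_normal ⊤
  have hAN : ∀ x ∈ 𝒜, x ∈ N := fun x hx => mem_fam hx (mem_top x)
  have h𝒟N : ∀ x ∈ 𝒟, x ∈ N := fun x hx => hAN x (h.sub hx)
  have hPN₁ : P₁ ≤ N := fun x hx => h𝒟N x ((h.mem_iff x (h.le₁ hx)).2 (Or.inl hx))
  have hPN₂ : P₂ ≤ N := fun x hx => h𝒟N x ((h.mem_iff x (h.le₂ hx)).2 (Or.inr hx))
  obtain ⟨S', hS'⟩ := (((isSyl_top S).inf le_top (by rw [Subgroup.normalizer_eq_top])) :
    IsSyl ((S : Subgroup G) ⊓ N) N).exists_sylow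
  have hS'm : ∀ {x : N}, x ∈ (S' : Subgroup N) ↔ (x : G) ∈ (S : Subgroup G) := by
    intro x
    constructor
    · intro hx
      have : (x : G) ∈ (S' : Subgroup N).map N.subtype := ⟨x, hx, rfl⟩
      rw [hS'] at this
      exact (mem_inf.1 this).1
    · intro hx
      have : (x : G) ∈ (S' : Subgroup N).map N.subtype := by
        rw [hS']
        exact mem_inf.2 ⟨hx, x.2⟩
      obtain ⟨y, hy, hyx⟩ := this
      have : y = x := Subtype.ext hyx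
      rwa [← this]
  have hne : ∀ P : Subgroup G, P ≤ N → P ≠ ⊥ → P.subgroupOf N ≠ ⊥ := by
    intro P hP h1 h2
    obtain ⟨x, hx, hx1⟩ := P.bot_or_exists_ne_one.resolve_left h1
    have : (⟨x, hP hx⟩ : N) ∈ P.subgroupOf N := mem_subgroupOf.2 hx
    rw [h2, mem_bot] at this
    exact hx1 (congrArg Subtype.val this)
  have hres : Two {x : N | (x : G) ∈ 𝒜} {x : N | (x : G) ∈ 𝒟} S' (P₁.subgroupOf N) (P₂.subgroupOf N) :=
    { fam := h.fam.restrict N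
      conj := fun x hx g => h.conj x hx g
      sub := fun x hx => h.sub hx
      le₁ := fun x hx => hS'm.2 (h.le₁ (mem_subgroupOf.1 hx))
      le₂ := fun x hx => hS'm.2 (h.le₂ (mem_subgroupOf.1 hx))
      inf := by
        rw [eq_bot_iff]
        intro x hx
        exact Subtype.ext (h.eq_one (mem_subgroupOf.1 (mem_inf.1 hx).1) (mem_subgroupOf.1 (mem_inf.1 hx).2))
      mem_iff := fun x hx => h.mem_iff x (hS'm.1 hx)
      ne₁ := hne P₁ hPN₁ h.ne₁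
      ne₂ := hne P₂ hPN₂ h.ne₂
      norm := fun a ha haS x hx => h.norm a ha (hS'm.1 haS) x (mem_subgroupOf.1 hx) }
  have hgen : fam {x : N | (x : G) ∈ 𝒜} ⊤ = ⊤ := by
    apply Subgroup.map_injective N.subtype_injective
    rw [map_fam_restrict_top, ← MonoidHom.range_eq_map, Subgroup.range_subtype]
    apply le_antisymm (fam_le _ _)
    conv_lhs => rw [hN]
    rw [fam_le_iff]
    exact fun x hx _ => mem_fam hx (hAN x hx)
  have hON := Cfsg.Agent.TwoFusion.ClosedZ.oddCore_eq_bot_of_normal hO N hNn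
  have key := comm_of_gen hres hON hgen (fun ℬ 𝒞 hp => hC1 N ℬ 𝒞 hp)
  intro x hx y hy hxy hxyn z hz hz1
  have h1 := key ⟨x, h𝒟N x hx⟩ hx ⟨y, h𝒟N y hy⟩ hy (Subtype.ext hxy) hxyn ⟨z, h𝒟N z hz⟩ hz
    (fun e => hz1 (congrArg Subtype.val e))
  rcases h1 with h2 | h2
  · exact Or.inl ⟨congrArg Subtype.val h2.1, h2.2⟩
  · exact Or.inr ⟨congrArg Subtype.val h2.1, h2.2⟩

/-- The form wanted by the induction: `fam 𝒜 S = P₁ × P₂`. -/
theorem two [Finite G] (S : Sylow 2 G) (hO : Cfsg.oddCore G = ⊥) {𝒜 𝒟 : Set G} (h𝒜 : IsClosedFam 𝒜)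
    (hconj : ∀ x ∈ 𝒟, ∀ g : G, g * x * g⁻¹ ∈ 𝒟) (hsub : 𝒟 ⊆ 𝒜) (P₁ P₂ : Subgroup G)
    (hc : ∀ x ∈ P₁, ∀ y ∈ P₂, x * y = y * x) (hinf : P₁ ⊓ P₂ = ⊥) (hsup : P₁ ⊔ P₂ = fam 𝒜 (S : Subgroup G))
    (h𝒟 : ∀ x ∈ (S : Subgroup G), x ∈ 𝒟 ↔ x ∈ P₁ ∨ x ∈ P₂)
    (hC1 : ∀ (H : Type u) [Group H] [Finite H] (𝒜 ℬ : Set H), Pair 𝒜 ℬ →
      ⁅fam 𝒜 ⊤, fam ℬ ⊤⁆ ≤ Cfsg.oddCore H) :
    ∀ x ∈ 𝒟, ∀ y ∈ 𝒟, x * y = y * x → x * y ∉ 𝒟 → ∀ z ∈ 𝒟, z ≠ 1 →
      (z * x = x * z ∧ z * x ∉ 𝒟) ∨ (z * y = y * z ∧ z * y ∉ 𝒟) := by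
  haveI : Fact (Nat.Prime 2) := ⟨Nat.prime_two⟩
  have hle₁ : P₁ ≤ S := le_sup_left.trans (hsup.le.trans (fam_le _ _))
  have hle₂ : P₂ ≤ S := le_sup_right.trans (hsup.le.trans (fam_le _ _))
  by_cases hne : P₁ ≠ ⊥ ∧ P₂ ≠ ⊥
  · refine two_of (S := S) (P₁ := P₁) (P₂ := P₂) ⟨h𝒜, hconj, hsub, hle₁, hle₂, hinf, h𝒟, hne.1, hne.2, ?_⟩ hO hC1
    intro a ha haS x hx
    have h1 : a ∈ P₁ ⊔ P₂ := by rw [hsup]; exact mem_fam ha haS
    have h2 : P₁ ⊔ P₂ ≤ normalizer (P₁ : Set G) := by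
      refine sup_le le_normalizer ?_
      intro y hy
      refine centralizer_le_normalizer _ ?_
      rw [mem_centralizer_iff]
      exact fun x hx => hc x hx y hy
    exact (mem_normalizer_iff.1 (h2 h1) x).1 hx
  · -- one factor: the product of commuting elements of `𝒟` is in `𝒟`
    intro x hx y hy hxy hxyn
    exfalso
    apply hxyn
    obtain ⟨g, hgx, hgy⟩ := exists_common h𝒜 S (hsub hx) (hsub hy) hxy
    have h1 := (h𝒟 _ hgx).1 (hconj x hx g)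
    have h2 := (h𝒟 _ hgy).1 (hconj y hy g)
    have e : g * (x * y) * g⁻¹ = (g * x * g⁻¹) * (g * y * g⁻¹) := by group
    have h3 : g * (x * y) * g⁻¹ ∈ P₁ ∨ g * (x * y) * g⁻¹ ∈ P₂ := by
      rw [e]
      rw [not_and_or, not_not, not_not] at hne
      rcases hne with h4 | h4
      · right
        rw [h4] at h1 h2
        have hb : ∀ z : G, z ∈ (⊥ : Subgroup G) ∨ z ∈ P₂ → z ∈ P₂ := by
          rintro z (hz | hz)
          · rw [mem_bot.1 hz]; exact one_mem _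
          · exact hz
        exact mul_mem (hb _ h1) (hb _ h2)
      · left
        rw [h4] at h1 h2
        have hb : ∀ z : G, z ∈ P₁ ∨ z ∈ (⊥ : Subgroup G) → z ∈ P₁ := by
          rintro z (hz | hz)
          · exact hz
          · rw [mem_bot.1 hz]; exact one_mem _
        exact mul_mem (hb _ h1) (hb _ h2)
    have h4 : g * (x * y) * g⁻¹ ∈ 𝒟 := (h𝒟 _ (h3.elim (fun h => hle₁ h) (fun h => hle₂ h))).2 h3
    have h5 := hconj _ h4 g⁻¹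
    have e2 : g⁻¹ * (g * (x * y) * g⁻¹) * g⁻¹⁻¹ = x * y := by group
    rwa [e2] at h5

end Cfsg.Agent.ProdFusion.TwoRel
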