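import Cfsg.Agent.TwoFusion.ClosedFam

/-!
# Permuted product fusion: the basic structure

`PF 𝒜 𝒟 T e` : `𝒜` is a closed family, `fam 𝒜 T` is (through `e`) the direct product of the groups `A i`, and
`𝒟` is a conjugation invariant subset of `𝒜` with `𝒟 ∩ T = ⋃ A i`.  So `G`-fusion, and even `T`, may permute the
factors.
`Orth 𝒟 x y` : `x, y ∈ 𝒟` commute and `x y ∉ 𝒟`; for elements of one 2-subgroup this says that they lie in
different factors.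
-/

set_option autoImplicit false

namespace Cfsg.Agent.ProdFusion

open Subgroup
open Cfsg.Agent.TwoFusion.ClosedFam

universe u v w

variable {G : Type u} [Group G] {ι : Type w} {A : ι → Type v} [∀ i, Group (A i)]

/-- the function `f` is supported at one index -/
def Sng (f : ∀ i, A i) : Prop := ∃ i, ∀ j, j ≠ i → f j = 1

/-- `fam 𝒜 T` is the product of the `A i` and `𝒟` is a conjugation invariant set of elements of `𝒜` which meets
`T` in the union of the factors. -/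
structure PF (𝒜 𝒟 : Set G) (T : Sylow 2 G) (e : ↥(fam 𝒜 (T : Subgroup G)) ≃* (∀ i, A i)) : Prop where
  cf : IsClosedFam 𝒜
  conj : ∀ x ∈ 𝒟, ∀ g : G, g * x * g⁻¹ ∈ 𝒟
  sub : 𝒟 ⊆ 𝒜
  one_mem : (1 : G) ∈ 𝒟
  mem_iff : ∀ x : ↥(fam 𝒜 (T : Subgroup G)), (x : G) ∈ 𝒟 ↔ Sng (e x)

/-- `x, y ∈ 𝒟` commute and lie in different factors. -/
def Orth (𝒟 : Set G) (x y : G) : Prop := x ∈ 𝒟 ∧ y ∈ 𝒟 ∧ x * y = y * x ∧ x * y ∉ 𝒟

/-- `x` lies in the `i`-th factor of `B`. -/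
def At {B : Subgroup G} (e : ↥B ≃* (∀ i, A i)) (i : ι) (x : G) : Prop :=
  ∃ h : x ∈ B, ∀ j, j ≠ i → e ⟨x, h⟩ j = 1

open Classical in
/-- the `i`-th component of `x ∈ B` -/
noncomputable def comp {B : Subgroup G} (e : ↥B ≃* (∀ i, A i)) (i : ι) (x : ↥B) : G :=
  (e.symm (Pi.mulSingle i (e x i)) : ↥B)

/-- the nontrivial components of `x` -/
def Comps {B : Subgroup G} (e : ↥B ≃* (∀ i, A i)) (x : G) : Set G :=
  {y | y ≠ 1 ∧ ∃ (h : x ∈ B) (i : ι), y = comp e i ⟨x, h⟩}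

/-- `B` contains two different commuting involutions. -/
def Rk2 (B : Type*) [Group B] : Prop :=
  ∃ a b : B, a ≠ 1 ∧ b ≠ 1 ∧ a ≠ b ∧ a * a = 1 ∧ b * b = 1 ∧ a * b = b * a

/-! ### Orthogonality -/

namespace Orth

variable {𝒟 : Set G} {x y : G}

theorem symm (h : Orth 𝒟 x y) : Orth 𝒟 y x :=
  ⟨h.2.1, h.1, h.2.2.1.symm, by rw [← h.2.2.1]; exact h.2.2.2⟩

theorem comm (h : Orth 𝒟 x y) : x * y = y * x := h.2.2.1

theorem ne_one_left (h : Orth 𝒟 x y) : x ≠ 1 := by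
  rintro rfl
  exact h.2.2.2 (by rw [one_mul]; exact h.2.1)

theorem ne_one_right (h : Orth 𝒟 x y) : y ≠ 1 := h.symm.ne_one_left

theorem conj (hD : ∀ x ∈ 𝒟, ∀ g : G, g * x * g⁻¹ ∈ 𝒟) (h : Orth 𝒟 x y) (g : G) :
    Orth 𝒟 (g * x * g⁻¹) (g * y * g⁻¹) := by
  refine ⟨hD _ h.1 g, hD _ h.2.1 g, ?_, ?_⟩
  · calc g * x * g⁻¹ * (g * y * g⁻¹) = g * (x * y) * g⁻¹ := by group
      _ = g * (y * x) * g⁻¹ := by rw [h.comm]
      _ = g * y * g⁻¹ * (g * x * g⁻¹) := by group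
  · intro h1
    apply h.2.2.2
    have h2 := hD _ h1 g⁻¹
    have e : g⁻¹ * (g * x * g⁻¹ * (g * y * g⁻¹)) * g⁻¹⁻¹ = x * y := by group
    rwa [e] at h2

theorem conj_iff (hD : ∀ x ∈ 𝒟, ∀ g : G, g * x * g⁻¹ ∈ 𝒟) (g : G) :
    Orth 𝒟 (g * x * g⁻¹) (g * y * g⁻¹) ↔ Orth 𝒟 x y := by
  refine ⟨fun h => ?_, fun h => h.conj hD g⟩
  have := h.conj hD g⁻¹
  have e1 : g⁻¹ * (g * x * g⁻¹) * g⁻¹⁻¹ = x := by group
  have e2 : g⁻¹ * (g * y * g⁻¹) * g⁻¹⁻¹ = y := by group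
  rwa [e1, e2] at this

end Orth

/-! ### Factors -/

section At

variable {B : Subgroup G} {e : ↥B ≃* (∀ i, A i)} {i j : ι} {x y t : G}

theorem At.mem (h : At e i x) : x ∈ B := h.1

theorem At.one : At e i (1 : G) := by
  refine ⟨one_mem _, fun j _ => ?_⟩
  have : (⟨1, one_mem _⟩ : ↥B) = 1 := rfl
  rw [this, map_one]
  rfl

theorem At.mul (hx : At e i x) (hy : At e i y) : At e i (x * y) := by
  obtain ⟨hx1, hx2⟩ := hx
  obtain ⟨hy1, hy2⟩ := hy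
  refine ⟨mul_mem hx1 hy1, fun j hj => ?_⟩
  have : (⟨x * y, mul_mem hx1 hy1⟩ : ↥B) = ⟨x, hx1⟩ * ⟨y, hy1⟩ := rfl
  rw [this, map_mul, Pi.mul_apply, hx2 j hj, hy2 j hj, one_mul]

theorem At.inv (hx : At e i x) : At e i x⁻¹ := by
  obtain ⟨hx1, hx2⟩ := hx
  refine ⟨inv_mem hx1, fun j hj => ?_⟩
  have : (⟨x⁻¹, inv_mem hx1⟩ : ↥B) = (⟨x, hx1⟩ : ↥B)⁻¹ := rfl
  rw [this, map_inv, Pi.inv_apply, hx2 j hj, inv_one]

/-- conjugation by an element of `B` -/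
theorem At.conj (hx : At e i x) (ht : t ∈ B) : At e i (t * x * t⁻¹) := by
  obtain ⟨hx1, hx2⟩ := hx
  refine ⟨mul_mem (mul_mem ht hx1) (inv_mem ht), fun j hj => ?_⟩
  have : (⟨t * x * t⁻¹, mul_mem (mul_mem ht hx1) (inv_mem ht)⟩ : ↥B) =
    ⟨t, ht⟩ * ⟨x, hx1⟩ * (⟨t, ht⟩ : ↥B)⁻¹ := rfl
  rw [this, map_mul, map_mul, map_inv, Pi.mul_apply, Pi.mul_apply, Pi.inv_apply, hx2 j hj, mul_one,
    mul_inv_cancel]

theorem At.comm (hx : At e i x) (hy : At e j y) (hij : i ≠ j) : x * y = y * x := by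
  obtain ⟨hx1, hx2⟩ := hx
  obtain ⟨hy1, hy2⟩ := hy
  have h1 : (⟨x, hx1⟩ : ↥B) * ⟨y, hy1⟩ = ⟨y, hy1⟩ * ⟨x, hx1⟩ := by
    apply e.injective
    rw [map_mul, map_mul]
    funext k
    rw [Pi.mul_apply, Pi.mul_apply]
    by_cases hk : k = i
    · rw [hy2 k (by rw [hk]; exact hij), one_mul, mul_one]
    · rw [hx2 k hk, one_mul, mul_one]
  exact congrArg Subtype.val h1

theorem At.eq_one (hx : At e i x) (hy : At e j x) (hij : i ≠ j) : x = 1 := by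
  obtain ⟨hx1, hx2⟩ := hx
  obtain ⟨hy1, hy2⟩ := hy
  have h1 : (⟨x, hx1⟩ : ↥B) = 1 := by
    apply e.injective
    rw [map_one]
    funext k
    rw [Pi.one_apply]
    by_cases hk : k = i
    · exact hy2 k (by rw [hk]; exact hij)
    · exact hx2 k hk
  exact congrArg Subtype.val h1

theorem At.apply_ne_one (hx : At e i x) (hx1 : x ≠ 1) : e ⟨x, hx.1⟩ i ≠ 1 := by
  intro h1
  apply hx1
  have h2 : (⟨x, hx.1⟩ : ↥B) = 1 := by
    apply e.injective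
    rw [map_one]
    funext k
    rw [Pi.one_apply]
    by_cases hk : k = i
    · rw [hk]; exact h1
    · exact hx.2 k hk
  exact congrArg Subtype.val h2

theorem At.ext (hx : At e i x) (hy : At e i y) (h : e ⟨x, hx.1⟩ i = e ⟨y, hy.1⟩ i) : x = y := by
  have h2 : (⟨x, hx.1⟩ : ↥B) = ⟨y, hy.1⟩ := by
    apply e.injective
    funext k
    by_cases hk : k = i
    · rw [hk]; exact h
    · rw [hx.2 k hk, hy.2 k hk]
  exact congrArg Subtype.val h2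

end At

/-! ### Components -/

section comp

variable {B : Subgroup G} {e : ↥B ≃* (∀ i, A i)} {i j : ι}

theorem comp_mem (i : ι) (x : ↥B) : comp e i x ∈ B := SetLike.coe_mem _

theorem e_comp_same (i : ι) (x : ↥B) : e ⟨comp e i x, comp_mem i x⟩ i = e x i := by
  classical
  have : (⟨comp e i x, comp_mem i x⟩ : ↥B) = e.symm (Pi.mulSingle i (e x i)) := rfl
  rw [this, MulEquiv.apply_symm_apply, Pi.mulSingle_eq_same]

theorem e_comp_ne (x : ↥B) (h : j ≠ i) : e ⟨comp e i x, comp_mem i x⟩ j = 1 := by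
  classical
  have : (⟨comp e i x, comp_mem i x⟩ : ↥B) = e.symm (Pi.mulSingle i (e x i)) := rfl
  rw [this, MulEquiv.apply_symm_apply, Pi.mulSingle_eq_of_ne h]

theorem at_comp (i : ι) (x : ↥B) : At e i (comp e i x) :=
  ⟨comp_mem i x, fun _ hj => e_comp_ne x hj⟩

theorem comp_eq_one_iff (i : ι) (x : ↥B) : comp e i x = 1 ↔ e x i = 1 := by
  constructor
  · intro h
    rw [← e_comp_same i x]
    have : (⟨comp e i x, comp_mem i x⟩ : ↥B) = 1 := Subtype.ext h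
    rw [this, map_one]; rfl
  · intro h
    by_contra hne
    exact (at_comp i x).apply_ne_one hne (by rw [e_comp_same]; exact h)

theorem At.comp_same {x : G} (hx : At e i x) : comp e i ⟨x, hx.1⟩ = x :=
  (at_comp i _).ext hx (e_comp_same i _)

theorem At.comp_ne {x : G} (hx : At e i x) (h : j ≠ i) : comp e j ⟨x, hx.1⟩ = 1 :=
  (comp_eq_one_iff j _).2 (hx.2 j h)

theorem comp_mul (i : ι) (x y : ↥B) : comp e i (x * y) = comp e i x * comp e i y := by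
  refine (at_comp i (x * y)).ext ((at_comp i x).mul (at_comp i y)) ?_
  rw [e_comp_same]
  have : (⟨comp e i x * comp e i y, ((at_comp i x).mul (at_comp i y)).1⟩ : ↥B) =
    ⟨comp e i x, comp_mem i x⟩ * ⟨comp e i y, comp_mem i y⟩ := rfl
  rw [this, map_mul, map_mul, Pi.mul_apply, Pi.mul_apply, e_comp_same, e_comp_same]

/-- the `i`-th component of `x` commutes with every `y ∈ B` which commutes with `x` -/
theorem comp_comm (i : ι) {x y : ↥B} (h : x * y = y * x) :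
    comp e i x * y = y * comp e i x := by
  have h1 : (⟨comp e i x, comp_mem i x⟩ : ↥B) * y = y * ⟨comp e i x, comp_mem i x⟩ := by
    apply e.injective
    rw [map_mul, map_mul]
    funext k
    rw [Pi.mul_apply, Pi.mul_apply]
    by_cases hk : k = i
    · subst hk
      rw [e_comp_same]
      have := congrFun (congrArg e h) k
      rwa [map_mul, map_mul] at this
    · rw [e_comp_ne x hk, one_mul, mul_one]
  exact congrArg Subtype.val h1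

theorem comp_ext {x y : ↥B} (h : ∀ i, comp e i x = comp e i y) : x = y := by
  apply e.injective
  funext i
  rw [← e_comp_same i x, ← e_comp_same i y]
  have h1 : (⟨comp e i x, comp_mem i x⟩ : ↥B) = ⟨comp e i y, comp_mem i y⟩ :=
    Subtype.ext (h i)
  rw [h1]

end comp

/-! ### Transport to other Sylow subgroups -/

theorem mem_smul_iff {T : Sylow 2 G} {g x : G} :
    x ∈ ((g • T : Sylow 2 G) : Subgroup G) ↔ g⁻¹ * x * g ∈ (T : Subgroup G) := by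
  rw [Sylow.coe_subgroup_smul, Subgroup.mem_pointwise_smul_iff_inv_smul_mem]
  have : (MulAut.conj g)⁻¹ • x = g⁻¹ * x * g := by
    rw [← map_inv, MulAut.smul_def, MulAut.conj_apply, inv_inv]
  rw [this]

section

variable {𝒜 : Set G} (h𝒜 : IsClosedFam 𝒜)
include h𝒜

theorem mem_fam_sylow {T : Sylow 2 G} {x : G} :
    x ∈ fam 𝒜 (T : Subgroup G) ↔ x ∈ 𝒜 ∧ x ∈ (T : Subgroup G) := h𝒜.mem_fam_iff T.2

theorem mem_fam_smul_iff {T : Sylow 2 G} {g x : G} :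
    x ∈ fam 𝒜 ((g • T : Sylow 2 G) : Subgroup G) ↔ g⁻¹ * x * g ∈ fam 𝒜 (T : Subgroup G) := by
  rw [mem_fam_sylow h𝒜, mem_fam_sylow h𝒜, mem_smul_iff]
  have h1 : g⁻¹ * x * g ∈ 𝒜 ↔ x ∈ 𝒜 := by
    have := h𝒜.conj_mem_iff (x := x) g⁻¹
    rwa [inv_inv] at this
  rw [h1]

/-- elements of `T` normalise `fam 𝒜 T` -/
theorem conj_mem_fam_sylow {T : Sylow 2 G} {t x : G} (ht : t ∈ (T : Subgroup G))
    (hx : x ∈ fam 𝒜 (T : Subgroup G)) : t * x * t⁻¹ ∈ fam 𝒜 (T : Subgroup G) := by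
  rw [mem_fam_sylow h𝒜] at hx ⊢
  exact ⟨h𝒜.conj_mem x hx.1 t, mul_mem (mul_mem ht hx.2) (inv_mem ht)⟩

end

/-- conjugation by `g` -/
def famConj {𝒜 : Set G} (h𝒜 : IsClosedFam 𝒜) (T : Sylow 2 G) (g : G) :
    ↥(fam 𝒜 ((g • T : Sylow 2 G) : Subgroup G)) ≃* ↥(fam 𝒜 (T : Subgroup G)) where
  toFun := fun x => ⟨g⁻¹ * (x : G) * g, (mem_fam_smul_iff h𝒜).1 x.2⟩
  invFun := fun x => ⟨g * (x : G) * g⁻¹, (mem_fam_smul_iff h𝒜).2 (by
    have e1 : g⁻¹ * (g * (x : G) * g⁻¹) * g = x := by group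
    rw [e1]; exact x.2)⟩
  left_inv := fun x => Subtype.ext (show g * (g⁻¹ * (x : G) * g) * g⁻¹ = x by group)
  right_inv := fun x => Subtype.ext (show g⁻¹ * (g * (x : G) * g⁻¹) * g = x by group)
  map_mul' := fun x y => Subtype.ext
    (show g⁻¹ * ((x : G) * y) * g = g⁻¹ * (x : G) * g * (g⁻¹ * (y : G) * g) by group)

/-- the conjugate structure -/
def conjE {𝒜 : Set G} (h𝒜 : IsClosedFam 𝒜) {T : Sylow 2 G} (e : ↥(fam 𝒜 (T : Subgroup G)) ≃* (∀ i, A i)) (g : G) :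
    ↥(fam 𝒜 ((g • T : Sylow 2 G) : Subgroup G)) ≃* (∀ i, A i) := (famConj h𝒜 T g).trans e

theorem conjE_apply {𝒜 : Set G} (h𝒜 : IsClosedFam 𝒜) {T : Sylow 2 G} (e : ↥(fam 𝒜 (T : Subgroup G)) ≃* (∀ i, A i)) (g : G)
    (x : ↥(fam 𝒜 ((g • T : Sylow 2 G) : Subgroup G))) :
    conjE h𝒜 e g x = e ⟨g⁻¹ * (x : G) * g, (mem_fam_smul_iff h𝒜).1 x.2⟩ := rfl

theorem PF.smul {𝒜 𝒟 : Set G} {S : Sylow 2 G} {e : ↥(fam 𝒜 (S : Subgroup G)) ≃* (∀ i, A i)}
    (h : PF 𝒜 𝒟 S e) (g : G) : PF 𝒜 𝒟 (g • S) (conjE h.cf e g) where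
  cf := h.cf
  conj := h.conj
  sub := h.sub
  one_mem := h.one_mem
  mem_iff := by
    intro x
    rw [conjE_apply, ← h.mem_iff]
    constructor
    · intro hx
      have := h.conj _ hx g⁻¹
      rwa [inv_inv] at this
    · intro hx
      have := h.conj _ hx g
      have e1 : g * (g⁻¹ * (x : G) * g) * g⁻¹ = x := by group
      change g * (g⁻¹ * (x : G) * g) * g⁻¹ ∈ 𝒟 at this
      rwa [e1] at this

theorem PF.transport [Finite G] {𝒜 𝒟 : Set G} {S : Sylow 2 G} {e : ↥(fam 𝒜 (S : Subgroup G)) ≃* (∀ i, A i)}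
    (h : PF 𝒜 𝒟 S e) (T : Sylow 2 G) :
    ∃ e' : ↥(fam 𝒜 (T : Subgroup G)) ≃* (∀ i, A i), PF 𝒜 𝒟 T e' := by
  haveI : Fact (Nat.Prime 2) := ⟨Nat.prime_two⟩
  obtain ⟨g, rfl⟩ := MulAction.exists_smul_eq G S T
  exact ⟨conjE h.cf e g, h.smul g⟩

/-! ### Facts from `PF` -/

section PF

variable {𝒜 𝒟 : Set G} {T : Sylow 2 G} {e : ↥(fam 𝒜 (T : Subgroup G)) ≃* (∀ i, A i)} (h : PF 𝒜 𝒟 T e)
  {i j : ι} {x y : G}
include h

theorem PF.two (hx : x ∈ 𝒟) : ∃ k : ℕ, x ^ 2 ^ k = 1 := h.cf.two x (h.sub hx)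

theorem PF.mem_famT (hx : x ∈ 𝒟) (hxT : x ∈ (T : Subgroup G)) : x ∈ fam 𝒜 (T : Subgroup G) :=
  (mem_fam_sylow h.cf).2 ⟨h.sub hx, hxT⟩

theorem At.mem_sylow (hx : At e i x) : x ∈ (T : Subgroup G) := ((mem_fam_sylow h.cf).1 hx.1).2

theorem PF.mem_of_at (hx : At e i x) : x ∈ 𝒟 := (h.mem_iff ⟨x, hx.1⟩).2 ⟨i, hx.2⟩

theorem PF.exists_at (hx : x ∈ 𝒟) (hxT : x ∈ (T : Subgroup G)) : ∃ i, At e i x := by
  obtain ⟨i, hi⟩ := (h.mem_iff ⟨x, h.mem_famT hx hxT⟩).1 hx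
  exact ⟨i, _, hi⟩

/-- `t ∈ T` permutes the factors -/
theorem PF.exists_at_conj {t : G} (hx : At e i x) (ht : t ∈ (T : Subgroup G)) : ∃ j, At e j (t * x * t⁻¹) :=
  h.exists_at (h.conj _ (h.mem_of_at hx) t) (mul_mem (mul_mem ht (At.mem_sylow h hx)) (inv_mem ht))

theorem PF.orth_of_ne (hx : At e i x) (hy : At e j y) (hx1 : x ≠ 1) (hy1 : y ≠ 1) (hij : i ≠ j) :
    Orth 𝒟 x y := by
  refine ⟨h.mem_of_at hx, h.mem_of_at hy, hx.comm hy hij, fun hxy => ?_⟩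
  obtain ⟨k, hk⟩ := h.exists_at hxy (mul_mem (At.mem_sylow h hx) (At.mem_sylow h hy))
  have hm : ∀ l, e ⟨x * y, hk.1⟩ l = e ⟨x, hx.1⟩ l * e ⟨y, hy.1⟩ l := by
    intro l
    have : (⟨x * y, hk.1⟩ : ↥(fam 𝒜 (T : Subgroup G))) = ⟨x, hx.1⟩ * ⟨y, hy.1⟩ := rfl
    rw [this, map_mul, Pi.mul_apply]
  by_cases hki : k = i
  · have h1 := hk.2 j (by rw [hki]; exact hij.symm)
    rw [hm, hx.2 j hij.symm, one_mul] at h1
    exact hy.apply_ne_one hy1 h1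
  · have h1 := hk.2 i (fun h2 => hki h2.symm)
    rw [hm, hy.2 i hij, mul_one] at h1
    exact hx.apply_ne_one hx1 h1

theorem PF.ne_of_orth (hxy : Orth 𝒟 x y) (hx : At e i x) (hy : At e j y) : i ≠ j := by
  rintro rfl
  exact hxy.2.2.2 (h.mem_of_at (hx.mul hy))

/-- an element of `𝒟 ∩ T` not orthogonal to `x ≠ 1` lies in the factor of `x`. -/
theorem PF.at_of_not_orth (hx : At e i x) (hx1 : x ≠ 1) (hy : y ∈ 𝒟) (hyT : y ∈ (T : Subgroup G))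
    (hxy : ¬ Orth 𝒟 x y) : At e i y := by
  obtain ⟨j, hj⟩ := h.exists_at hy hyT
  by_cases hy1 : y = 1
  · rw [hy1]; exact At.one
  by_cases hij : i = j
  · rw [hij]; exact hj
  · exact absurd (h.orth_of_ne hx hj hx1 hy1 hij) hxy

theorem PF.not_orth_of_at (hx : At e i x) (hy : At e i y) : ¬ Orth 𝒟 x y :=
  fun hxy => h.ne_of_orth hxy hx hy rfl

/-- the factor of `t x t⁻¹` only depends on the factor of `x` -/
theorem PF.at_conj {t : G} {k : ι} (hx : At e i x) (hx1 : x ≠ 1) (hy : At e i y) (ht : t ∈ (T : Subgroup G))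
    (hk : At e k (t * x * t⁻¹)) : At e k (t * y * t⁻¹) := by
  have hx1' : t * x * t⁻¹ ≠ 1 := by
    intro h1
    apply hx1
    have : x = t⁻¹ * (t * x * t⁻¹) * t := by group
    rw [this, h1]; group
  refine h.at_of_not_orth hk hx1' (h.conj _ (h.mem_of_at hy) t)
    (mul_mem (mul_mem ht (At.mem_sylow h hy)) (inv_mem ht)) ?_
  rw [Orth.conj_iff h.conj]
  exact h.not_orth_of_at hx hy

/-- `t ∈ T` commuting with some `v ≠ 1` of the `i`-th factor normalises the `i`-th factor. -/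
theorem PF.at_conj_same {t v : G} (hv : At e i v) (hv1 : v ≠ 1) (ht : t ∈ (T : Subgroup G)) (htv : t * v = v * t)
    (hy : At e i y) : At e i (t * y * t⁻¹) := by
  refine h.at_conj hv hv1 hy ht ?_
  have : t * v * t⁻¹ = v := by rw [htv]; group
  rw [this]; exact hv

theorem PF.inv_mem_set (hx : x ∈ 𝒟) [Finite G] : x⁻¹ ∈ 𝒟 := by
  haveI : Fact (Nat.Prime 2) := ⟨Nat.prime_two⟩
  obtain ⟨T', hT'⟩ := (h.cf.isPGroup_zpowers (h.sub hx)).exists_le_sylow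
  obtain ⟨e', h'⟩ := h.transport T'
  obtain ⟨l, hl⟩ := h'.exists_at hx (hT' (mem_zpowers x))
  exact h'.mem_of_at hl.inv

end PF

end Cfsg.Agent.ProdFusion
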