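import Cfsg.Agent.ProdFusion.Basic

/-!
# Permuted product fusion: the components of an element do not depend on the Sylow subgroup

`cw`: if an abelian subgroup `X` lies in two Sylow subgroups `T, T'`, then up to an element `h ∈ C(X)` the components
of the elements of `X` in `T` and in `T'` are the same.
-/

set_option autoImplicit false

namespace Cfsg.Agent.ProdFusion

open Subgroup
open Cfsg.Agent.TwoFusion.ClosedFam

universe u v w

variable {G : Type u} [Group G] {ι : Type w} {A : ι → Type v} [∀ i, Group (A i)]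

theorem isPGroup_subgroupOf {Q : Subgroup G} (h : IsPGroup 2 Q) (C : Subgroup G) :
    IsPGroup 2 (Q.subgroupOf C) := h.comap_of_injective _ C.subtype_injective

theorem mem_comps_of_comp {B : Subgroup G} {e : ↥B ≃* (∀ i, A i)} {x : G} (h : x ∈ B)
    (i : ι) (hne : comp e i ⟨x, h⟩ ≠ 1) : comp e i ⟨x, h⟩ ∈ Comps e x := ⟨hne, h, i, rfl⟩

theorem At.mem_comps {B : Subgroup G} {e : ↥B ≃* (∀ i, A i)} {x : G} {i : ι} (h : At e i x)
    (hne : x ≠ 1) : x ∈ Comps e x := ⟨hne, h.1, i, h.comp_same.symm⟩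

section

variable {𝒜 : Set G} (h𝒜 : IsClosedFam 𝒜) {T : Sylow 2 G}

theorem at_conjE {e : ↥(fam 𝒜 (T : Subgroup G)) ≃* (∀ i, A i)} {i : ι} {x g : G} (h : At e i x) :
    At (conjE h𝒜 e g) i (g * x * g⁻¹) := by
  have hm : g * x * g⁻¹ ∈ fam 𝒜 ((g • T : Sylow 2 G) : Subgroup G) := by
    rw [mem_fam_smul_iff h𝒜]
    have e1 : g⁻¹ * (g * x * g⁻¹) * g = x := by group
    rw [e1]; exact h.1
  refine ⟨hm, fun j hj => ?_⟩
  have h2 : (⟨g⁻¹ * (g * x * g⁻¹) * g, (mem_fam_smul_iff h𝒜).1 hm⟩ : ↥(fam 𝒜 (T : Subgroup G))) = ⟨x, h.1⟩ :=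
    Subtype.ext (show g⁻¹ * (g * x * g⁻¹) * g = x by group)
  rw [conjE_apply, h2]
  exact h.2 j hj

theorem comp_conjE (e : ↥(fam 𝒜 (T : Subgroup G)) ≃* (∀ i, A i)) (i : ι) (g : G) {x : G}
    (hx : x ∈ fam 𝒜 (T : Subgroup G)) (hm : g * x * g⁻¹ ∈ fam 𝒜 ((g • T : Sylow 2 G) : Subgroup G)) :
    comp (conjE h𝒜 e g) i ⟨g * x * g⁻¹, hm⟩ = g * comp e i ⟨x, hx⟩ * g⁻¹ := by
  refine (at_comp i _).ext (at_conjE h𝒜 (at_comp i _)) ?_
  rw [e_comp_same, conjE_apply, conjE_apply]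
  have h1 : (⟨g⁻¹ * (g * x * g⁻¹) * g, (mem_fam_smul_iff h𝒜).1 hm⟩ : ↥(fam 𝒜 (T : Subgroup G))) = ⟨x, hx⟩ :=
    Subtype.ext (show g⁻¹ * (g * x * g⁻¹) * g = x by group)
  have h2 : ∀ hm', (⟨g⁻¹ * (g * comp e i ⟨x, hx⟩ * g⁻¹) * g, hm'⟩ : ↥(fam 𝒜 (T : Subgroup G))) =
      ⟨comp e i ⟨x, hx⟩, comp_mem i _⟩ := fun _ =>
    Subtype.ext (show g⁻¹ * (g * comp e i ⟨x, hx⟩ * g⁻¹) * g = comp e i ⟨x, hx⟩ by group)
  simp only [h1, h2, e_comp_same]

end

section

variable {𝒜 𝒟 : Set G} {T T' : Sylow 2 G} {e : ↥(fam 𝒜 (T : Subgroup G)) ≃* (∀ i, A i)}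
  {e' : ↥(fam 𝒜 (T' : Subgroup G)) ≃* (∀ i, A i)} (hT : PF 𝒜 𝒟 T e) (hT' : PF 𝒜 𝒟 T' e')
include hT hT'

theorem comps_aux (x : ↥(fam 𝒜 (T : Subgroup G))) (hc : ∀ i, comp e i x ∈ (T' : Subgroup G)) (s : Finset ι) :
    ∀ z : ↥(fam 𝒜 (T : Subgroup G)), (∀ i ∈ s, e z i = e x i) → (∀ i ∉ s, e z i = 1) →
      ∃ hz : (z : G) ∈ fam 𝒜 (T' : Subgroup G),
        (∀ i ∈ s, comp e i x ≠ 1 → ∃ j, comp e' j ⟨z, hz⟩ = comp e i x) ∧
        (∀ j, comp e' j ⟨z, hz⟩ ≠ 1 → ∃ i ∈ s, comp e' j ⟨z, hz⟩ = comp e i x) := by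
  classical
  induction s using Finset.induction_on with
  | empty =>
    intro z _ hz
    have hz1 : z = 1 := by
      apply e.injective
      funext i
      rw [hz i (by simp), map_one]; rfl
    subst hz1
    refine ⟨one_mem _, fun i hi => absurd hi (by simp), fun j hj => ?_⟩
    exfalso
    apply hj
    rw [comp_eq_one_iff]
    have : (⟨((1 : ↥(fam 𝒜 (T : Subgroup G))) : G), one_mem _⟩ : ↥(fam 𝒜 (T' : Subgroup G))) = 1 := rfl
    rw [this, map_one]; rfl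
  | insert i s his ih =>
    intro z hz1 hz2
    set c : ↥(fam 𝒜 (T : Subgroup G)) := ⟨comp e i x, comp_mem i x⟩ with hcdef
    have hci : e c i = e x i := e_comp_same i x
    have hcj : ∀ j, j ≠ i → e c j = 1 := fun j hj => e_comp_ne x hj
    obtain ⟨hz', h1, h2⟩ := ih (z * c⁻¹) (by
      intro j hj
      have hji : j ≠ i := fun h => his (h ▸ hj)
      rw [map_mul, map_inv, Pi.mul_apply, Pi.inv_apply, hcj j hji, inv_one, mul_one]
      exact hz1 j (Finset.mem_insert_of_mem hj)) (by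
      intro j hj
      by_cases hji : j = i
      · subst hji
        rw [map_mul, map_inv, Pi.mul_apply, Pi.inv_apply, hci, hz1 j (Finset.mem_insert_self j s),
          mul_inv_cancel]
      · rw [map_mul, map_inv, Pi.mul_apply, Pi.inv_apply, hcj j hji, inv_one, mul_one]
        exact hz2 j (by
          intro h
          rcases Finset.mem_insert.1 h with h | h
          · exact hji h
          · exact hj h))
    have hcT' : (c : G) ∈ fam 𝒜 (T' : Subgroup G) := hT'.mem_famT (hT.mem_of_at (at_comp i x)) (hc i)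
    have hzT' : (z : G) ∈ fam 𝒜 (T' : Subgroup G) := by
      have := mul_mem hz' hcT'
      have e1 : ((z * c⁻¹ : ↥(fam 𝒜 (T : Subgroup G))) : G) * (c : G) = z := by
        rw [← Subgroup.coe_mul, inv_mul_cancel_right]
      rwa [e1] at this
    have hmul : ∀ j, comp e' j ⟨z, hzT'⟩ =
        comp e' j ⟨((z * c⁻¹ : ↥(fam 𝒜 (T : Subgroup G))) : G), hz'⟩ * comp e' j ⟨(c : G), hcT'⟩ := by
      intro j
      rw [← comp_mul]
      congr 1
      apply Subtype.ext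
      change (z : G) = ((z * c⁻¹ : ↥(fam 𝒜 (T : Subgroup G))) : G) * (c : G)
      rw [← Subgroup.coe_mul, inv_mul_cancel_right]
    by_cases hc1 : (c : G) = 1
    · -- trivial component
      have hcj' : ∀ j, comp e' j ⟨(c : G), hcT'⟩ = 1 := by
        intro j
        rw [comp_eq_one_iff]
        have : (⟨(c : G), hcT'⟩ : ↥(fam 𝒜 (T' : Subgroup G))) = 1 := Subtype.ext hc1
        rw [this, map_one]; rfl
      refine ⟨hzT', ?_, ?_⟩
      · intro k hk hkne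
        rcases Finset.mem_insert.1 hk with rfl | hk
        · exact absurd hc1 hkne
        · obtain ⟨j, hj⟩ := h1 k hk hkne
          exact ⟨j, by rw [hmul, hcj', mul_one]; exact hj⟩
      · intro j hj
        rw [hmul, hcj', mul_one] at hj ⊢
        obtain ⟨k, hk, hk2⟩ := h2 j hj
        exact ⟨k, Finset.mem_insert_of_mem hk, hk2⟩
    · -- nontrivial component
      obtain ⟨j₀, hj₀⟩ := hT'.exists_at (hT.mem_of_at (at_comp i x)) (hc i)
      have hcc : comp e' j₀ ⟨(c : G), hcT'⟩ = c := At.comp_same hj₀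
      have hcn : ∀ j, j ≠ j₀ → comp e' j ⟨(c : G), hcT'⟩ = 1 := fun j hj => At.comp_ne hj₀ hj
      have hzj₀ : comp e' j₀ ⟨((z * c⁻¹ : ↥(fam 𝒜 (T : Subgroup G))) : G), hz'⟩ = 1 := by
        by_contra hne
        obtain ⟨k, hk, hk2⟩ := h2 j₀ hne
        have hki : k ≠ i := fun h => his (h ▸ hk)
        have ho : Orth 𝒟 (comp e k x) (comp e i x) :=
          hT.orth_of_ne (at_comp k x) (at_comp i x) (by rw [← hk2]; exact hne) hc1 hki
        have hat : At e' j₀ (comp e k x) := by rw [← hk2]; exact at_comp j₀ _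
        exact hT'.not_orth_of_at hat hj₀ ho
      refine ⟨hzT', ?_, ?_⟩
      · intro k hk hkne
        rcases Finset.mem_insert.1 hk with rfl | hk
        · exact ⟨j₀, by rw [hmul, hzj₀, one_mul, hcc]⟩
        · obtain ⟨j, hj⟩ := h1 k hk hkne
          have hjj : j ≠ j₀ := by
            rintro rfl
            rw [hzj₀] at hj
            exact hkne hj.symm
          exact ⟨j, by rw [hmul, hcn j hjj, mul_one]; exact hj⟩
      · intro j hj
        by_cases hjj : j = j₀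
        · subst hjj
          exact ⟨i, Finset.mem_insert_self i s, by rw [hmul, hzj₀, one_mul, hcc]⟩
        · rw [hmul, hcn j hjj, mul_one] at hj ⊢
          obtain ⟨k, hk, hk2⟩ := h2 j hj
          exact ⟨k, Finset.mem_insert_of_mem hk, hk2⟩

/-- If the `T`-components of `x` lie in `T'`, then they are the `T'`-components of `x`. -/
theorem comps_eq [Finite ι] {x : G} (hx : x ∈ fam 𝒜 (T : Subgroup G))
    (hc : ∀ i, comp e i ⟨x, hx⟩ ∈ (T' : Subgroup G)) : Comps e x = Comps e' x := by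
  haveI := Fintype.ofFinite ι
  obtain ⟨hz, h1, h2⟩ := comps_aux hT hT' ⟨x, hx⟩ hc Finset.univ ⟨x, hx⟩ (fun _ _ => rfl)
    (fun i hi => absurd (Finset.mem_univ i) hi)
  ext y
  constructor
  · rintro ⟨hy, _, i, rfl⟩
    obtain ⟨j, hj⟩ := h1 i (Finset.mem_univ i) hy
    exact ⟨hy, hz, j, hj.symm⟩
  · rintro ⟨hy, _, j, rfl⟩
    obtain ⟨i, -, hi⟩ := h2 j hy
    exact ⟨hy, hx, i, hi⟩

/-- (CW) -/
theorem cw [Finite G] [Finite ι] (X : Subgroup G) (hcomm : ∀ x ∈ X, ∀ y ∈ X, x * y = y * x)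
    (hXT : X ≤ fam 𝒜 (T : Subgroup G)) (hXT' : X ≤ (T' : Subgroup G)) :
    ∃ h : G, (∀ x ∈ X, h * x = x * h) ∧ ∀ x ∈ X, ∀ y, y ∈ Comps e x ↔ h⁻¹ * y * h ∈ Comps e' x := by
  haveI : Fact (Nat.Prime 2) := ⟨Nat.prime_two⟩
  set C : Subgroup G := centralizer (X : Set G) with hC
  have hXf : X ≤ fam 𝒜 (T' : Subgroup G) := fun x hx =>
    (mem_fam_sylow hT.cf).2 ⟨((mem_fam_sylow hT.cf).1 (hXT hx)).1, hXT' hx⟩
  have hQ : IsPGroup 2 (((T : Subgroup G) ⊓ C).subgroupOf C) := isPGroup_subgroupOf (T.2.to_le inf_le_left) C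
  have hQ' : IsPGroup 2 (((T' : Subgroup G) ⊓ C).subgroupOf C) :=
    isPGroup_subgroupOf (T'.2.to_le inf_le_left) C
  obtain ⟨R, hR⟩ := hQ.exists_le_sylow
  obtain ⟨R', hR'⟩ := hQ'.exists_le_sylow
  obtain ⟨c, hc⟩ := MulAction.exists_smul_eq C R' R
  have hRp : IsPGroup 2 ((R : Subgroup C).map C.subtype) := R.2.map _
  obtain ⟨S, hS⟩ := hRp.exists_le_sylow
  obtain ⟨eS, hSe⟩ := hT.transport S
  -- elements of `T ∩ C` lie in `S`
  have key1 : ∀ y ∈ (T : Subgroup G), y ∈ C → y ∈ (S : Subgroup G) := by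
    intro y hy hyC
    exact hS ⟨⟨y, hyC⟩, hR (by rw [mem_subgroupOf]; exact ⟨hy, hyC⟩), rfl⟩
  have key2 : ∀ y ∈ (T' : Subgroup G), y ∈ C → (c : G) * y * (c : G)⁻¹ ∈ (S : Subgroup G) := by
    intro y hy hyC
    refine hS ⟨c * ⟨y, hyC⟩ * c⁻¹, ?_, rfl⟩
    rw [SetLike.mem_coe, ← hc, mem_smul_iff]
    have e1 : c⁻¹ * (c * (⟨y, hyC⟩ : C) * c⁻¹) * c = ⟨y, hyC⟩ := by group
    rw [e1]
    exact hR' (by rw [mem_subgroupOf]; exact ⟨hy, hyC⟩)
  have hcC : ∀ x ∈ X, (c : G) * x = x * c := fun x hx => (mem_centralizer_iff.1 c.2 x hx).symm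
  refine ⟨c, hcC, fun x hx y => ?_⟩
  have hconj : (c : G) * x * (c : G)⁻¹ = x := by rw [hcC x hx]; group
  -- components in `T`
  have h1 : Comps e x = Comps eS x := by
    refine comps_eq hT hSe (hXT hx) fun i => key1 _ (At.mem_sylow hT (at_comp i _)) ?_
    rw [hC, mem_centralizer_iff]
    intro z hz
    have := comp_comm (e := e) i (x := ⟨x, hXT hx⟩) (y := ⟨z, hXT hz⟩) (Subtype.ext (hcomm x hx z hz))
    exact this.symm
  -- components in `T'`
  have hm : (c : G) * x * (c : G)⁻¹ ∈ fam 𝒜 (((c : G) • T' : Sylow 2 G) : Subgroup G) := by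
    rw [mem_fam_smul_iff hT.cf]
    have e1 : (c : G)⁻¹ * ((c : G) * x * (c : G)⁻¹) * c = x := by group
    rw [e1]; exact hXf hx
  have h2 : Comps (conjE hT.cf e' (c : G)) ((c : G) * x * (c : G)⁻¹) = Comps eS ((c : G) * x * (c : G)⁻¹) := by
    refine comps_eq (hT'.smul (c : G)) hSe hm fun i => ?_
    rw [comp_conjE hT.cf e' i (c : G) (hXf hx) hm]
    refine key2 _ (At.mem_sylow hT' (at_comp i _)) ?_
    rw [hC, mem_centralizer_iff]
    intro z hz
    have := comp_comm (e := e') i (x := ⟨x, hXf hx⟩) (y := ⟨z, hXf hz⟩) (Subtype.ext (hcomm x hx z hz))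
    exact this.symm
  rw [h1]
  rw [hconj] at h2
  rw [← h2]
  constructor
  · rintro ⟨hy, hx', i, hyi⟩
    have hx'' : x ∈ fam 𝒜 (T' : Subgroup G) := hXf hx
    refine ⟨fun h => hy ?_, hx'', i, ?_⟩
    · have : y = (c : G) * ((c : G)⁻¹ * y * c) * (c : G)⁻¹ := by group
      rw [this, h]; group
    · have e2 : (⟨x, hx'⟩ : ↥(fam 𝒜 (((c : G) • T' : Sylow 2 G) : Subgroup G))) =
          ⟨(c : G) * x * (c : G)⁻¹, hm⟩ := Subtype.ext hconj.symm
      rw [hyi, e2, comp_conjE hT.cf e' i (c : G) hx'' hm]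
      group
  · rintro ⟨hy, hx'', i, hyi⟩
    have hx' : x ∈ fam 𝒜 (((c : G) • T' : Sylow 2 G) : Subgroup G) := by rw [hconj] at hm; exact hm
    refine ⟨fun h => hy (by rw [h]; group), hx', i, ?_⟩
    have e2 : (⟨x, hx'⟩ : ↥(fam 𝒜 (((c : G) • T' : Sylow 2 G) : Subgroup G))) =
        ⟨(c : G) * x * (c : G)⁻¹, hm⟩ := Subtype.ext hconj.symm
    rw [e2, comp_conjE hT.cf e' i (c : G) hx'' hm, ← hyi]
    group

end

end Cfsg.Agent.ProdFusion
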