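import Cfsg.Agent.ProdFusion.Comps
import Cfsg.Agent.Involutions.NormalFour

/-!
# Permuted product fusion: orthogonality in 2-subgroups, independence of the Sylow subgroup
-/

set_option autoImplicit false

namespace Cfsg.Agent.ProdFusion

open Subgroup
open Cfsg.Agent.TwoFusion.ClosedFam

universe u v w

variable {G : Type u} [Group G] {ι : Type w} {A : ι → Type v} [∀ i, Group (A i)]

theorem isPGroup_closure_pair [Finite G] {x y : G} (hx : ∃ k : ℕ, x ^ 2 ^ k = 1) (hy : ∃ k : ℕ, y ^ 2 ^ k = 1)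
    (hxy : x * y = y * x) : IsPGroup 2 (closure ({x, y} : Set G)) := by
  have hc : Commute x y := hxy
  obtain ⟨k, hk⟩ := hx
  obtain ⟨l, hl⟩ := hy
  rintro ⟨z, hz⟩
  have hz' : ∃ m n : ℤ, z = x ^ m * y ^ n := by
    refine closure_induction (p := fun z _ => ∃ m n : ℤ, z = x ^ m * y ^ n) ?_ ?_ ?_ ?_ hz
    · rintro z (rfl | rfl)
      · exact ⟨1, 0, by simp⟩
      · exact ⟨0, 1, by simp⟩
    · exact ⟨0, 0, by simp⟩
    · rintro _ _ _ _ ⟨m, n, rfl⟩ ⟨m', n', rfl⟩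
      refine ⟨m + m', n + n', ?_⟩
      rw [zpow_add, zpow_add]
      have h1 : y ^ n * x ^ m' = x ^ m' * y ^ n := ((hc.zpow_left m').zpow_right n).symm.eq
      calc x ^ m * y ^ n * (x ^ m' * y ^ n') = x ^ m * (y ^ n * x ^ m') * y ^ n' := by group
        _ = x ^ m * x ^ m' * (y ^ n * y ^ n') := by rw [h1]; group
    · rintro _ _ ⟨m, n, rfl⟩
      refine ⟨-m, -n, ?_⟩
      rw [mul_inv_rev, ← zpow_neg, ← zpow_neg]
      exact ((hc.zpow_left (-m)).zpow_right (-n)).symm.eq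
  obtain ⟨m, n, rfl⟩ := hz'
  refine ⟨k + l, Subtype.ext ?_⟩
  change (x ^ m * y ^ n) ^ 2 ^ (k + l) = 1
  have h1 : (x ^ m) ^ 2 ^ (k + l) = 1 := by
    have e1 : m * ((2 ^ (k + l) : ℕ) : ℤ) = ((2 ^ k : ℕ) : ℤ) * (m * 2 ^ l) := by push_cast; ring
    rw [← zpow_natCast, ← zpow_mul, e1, zpow_mul, zpow_natCast, hk, one_zpow]
  have h2 : (y ^ n) ^ 2 ^ (k + l) = 1 := by
    have e2 : n * ((2 ^ (k + l) : ℕ) : ℤ) = ((2 ^ l : ℕ) : ℤ) * (n * 2 ^ k) := by push_cast; ring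
    rw [← zpow_natCast, ← zpow_mul, e2, zpow_mul, zpow_natCast, hl, one_zpow]
  rw [((hc.zpow_left m).zpow_right n).mul_pow, h1, h2, one_mul]

theorem closure_pair_comm {x y : G} (hxy : x * y = y * x) :
    ∀ a ∈ closure ({x, y} : Set G), ∀ b ∈ closure ({x, y} : Set G), a * b = b * a := by
  have hc : ∀ a ∈ ({x, y} : Set G), ∀ b ∈ ({x, y} : Set G), a * b = b * a := by
    rintro a (rfl | rfl) b (rfl | rfl)
    · rfl
    · exact hxy
    · exact hxy.symm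
    · rfl
  have h1 : closure ({x, y} : Set G) ≤ centralizer (({x, y} : Set G)) := by
    rw [closure_le]
    intro a ha
    rw [SetLike.mem_coe, mem_centralizer_iff]
    exact fun b hb => hc b hb a ha
  have h2 : closure ({x, y} : Set G) ≤ centralizer ((closure ({x, y} : Set G) : Subgroup G) : Set G) := by
    rw [closure_le]
    intro a ha
    rw [SetLike.mem_coe, mem_centralizer_iff]
    intro b hb
    exact (mem_centralizer_iff.1 (h1 hb) a ha).symm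
  intro a ha b hb
  exact (mem_centralizer_iff.1 (h2 ha) b hb).symm

/-- A Sylow subgroup over a 2-subgroup, with its structure. -/
theorem PF.exists_over [Finite G] {𝒜 𝒟 : Set G} {S : Sylow 2 G} {e : ↥(fam 𝒜 (S : Subgroup G)) ≃* (∀ i, A i)}
    (h : PF 𝒜 𝒟 S e) {Q : Subgroup G} (hQ : IsPGroup 2 Q) :
    ∃ (T : Sylow 2 G) (e' : ↥(fam 𝒜 (T : Subgroup G)) ≃* (∀ i, A i)), PF 𝒜 𝒟 T e' ∧ Q ≤ (T : Subgroup G) := by
  obtain ⟨T, hT⟩ := hQ.exists_le_sylow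
  obtain ⟨e', h'⟩ := h.transport T
  exact ⟨T, e', h', hT⟩

section Q

variable [Finite G] {𝒜 𝒟 : Set G} {S : Sylow 2 G} {e : ↥(fam 𝒜 (S : Subgroup G)) ≃* (∀ i, A i)} (h : PF 𝒜 𝒟 S e)
  {Q : Subgroup G} (hQ : IsPGroup 2 Q) {x y z : G}
include h hQ

theorem PF.not_orth_trans (hx : x ∈ 𝒟) (hy : y ∈ 𝒟) (hz : z ∈ 𝒟) (hxQ : x ∈ Q) (hyQ : y ∈ Q) (hzQ : z ∈ Q)
    (hy1 : y ≠ 1) (hxy : ¬ Orth 𝒟 x y) (hyz : ¬ Orth 𝒟 y z) : ¬ Orth 𝒟 x z := by
  obtain ⟨T, e', h', hT⟩ := h.exists_over hQ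
  obtain ⟨i, hi⟩ := h'.exists_at hy (hT hyQ)
  have h1 := h'.at_of_not_orth hi hy1 hx (hT hxQ) (fun ho => hxy ho.symm)
  have h2 := h'.at_of_not_orth hi hy1 hz (hT hzQ) hyz
  exact h'.not_orth_of_at h1 h2

/-- `y` in the factor of `x`, `z` not in the factor of `x` -/
theorem PF.orth_trans (hx : x ∈ 𝒟) (hy : y ∈ 𝒟) (hxQ : x ∈ Q) (hyQ : y ∈ Q) (hzQ : z ∈ Q)
    (hx1 : x ≠ 1) (hxy : ¬ Orth 𝒟 x y) (hy1 : y ≠ 1) (hxz : Orth 𝒟 x z) : Orth 𝒟 y z := by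
  by_contra hyz
  exact h.not_orth_trans hQ hx hy hxz.2.1 hxQ hyQ hzQ hy1 hxy hyz hxz

/-- two elements of `𝒟` in a 2-subgroup with non-orthogonal factors: the product is in `𝒟` -/
theorem PF.mul_mem_of_not_orth (hx : x ∈ 𝒟) (hy : y ∈ 𝒟) (hxQ : x ∈ Q) (hyQ : y ∈ Q)
    (hxy : ¬ Orth 𝒟 x y) : x * y ∈ 𝒟 := by
  obtain ⟨T, e', h', hT⟩ := h.exists_over hQ
  by_cases hx1 : x = 1
  · rw [hx1, one_mul]; exact hy
  obtain ⟨i, hi⟩ := h'.exists_at hx (hT hxQ)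
  exact h'.mem_of_at (hi.mul (h'.at_of_not_orth hi hx1 hy (hT hyQ) hxy))

/-- two elements of `𝒟` in a 2-subgroup which do not commute have a product in `𝒟` -/
theorem PF.comm_or_mul_mem (hx : x ∈ 𝒟) (hy : y ∈ 𝒟) (hxQ : x ∈ Q) (hyQ : y ∈ Q) :
    Orth 𝒟 x y ∨ x * y ∈ 𝒟 := by
  by_cases ho : Orth 𝒟 x y
  · exact Or.inl ho
  · exact Or.inr (h.mul_mem_of_not_orth hQ hx hy hxQ hyQ ho)

theorem PF.not_orth_mul (hx : x ∈ 𝒟) (hy : y ∈ 𝒟) (hxQ : x ∈ Q) (hyQ : y ∈ Q) (hx1 : x ≠ 1)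
    (hxy : ¬ Orth 𝒟 x y) : ¬ Orth 𝒟 x (x * y) := by
  obtain ⟨T, e', h', hT⟩ := h.exists_over hQ
  obtain ⟨i, hi⟩ := h'.exists_at hx (hT hxQ)
  exact h'.not_orth_of_at hi (hi.mul (h'.at_of_not_orth hi hx1 hy (hT hyQ) hxy))

theorem PF.not_orth_conj (hx : x ∈ 𝒟) (hxQ : x ∈ Q) (hy : y ∈ 𝒜) (hyQ : y ∈ Q) :
    ¬ Orth 𝒟 x (y * x * y⁻¹) := by
  obtain ⟨T, e', h', hT⟩ := h.exists_over hQ
  obtain ⟨i, hi⟩ := h'.exists_at hx (hT hxQ)
  exact h'.not_orth_of_at hi (hi.conj ((mem_fam_sylow h.cf).2 ⟨hy, hT hyQ⟩))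

/-- in each 2-subgroup `Q ⊆ 𝒜` there is a central involution in the factor of `x ∈ 𝒟 ∩ Q`. -/
theorem PF.exists_central (hQ𝒜 : ∀ q ∈ Q, q ∈ 𝒜) (hx : x ∈ 𝒟) (hxQ : x ∈ Q) (hx1 : x ≠ 1) :
    ∃ z ∈ 𝒟, z ∈ Q ∧ z ≠ 1 ∧ z * z = 1 ∧ (∀ q ∈ Q, z * q = q * z) ∧ ¬ Orth 𝒟 x z := by
  haveI : Fact (Nat.Prime 2) := ⟨Nat.prime_two⟩
  obtain ⟨T, e', h', hT⟩ := h.exists_over hQ
  obtain ⟨i, hi⟩ := h'.exists_at hx (hT hxQ)
  let N : Subgroup Q :=
    { carrier := {q | At e' i (q : G)}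
      one_mem' := At.one
      mul_mem' := fun ha hb => At.mul ha hb
      inv_mem' := fun ha => At.inv ha }
  have hN : N.Normal := ⟨fun n hn g => At.conj hn ((mem_fam_sylow h.cf).2 ⟨hQ𝒜 g g.2, hT g.2⟩)⟩
  have hNne : N ≠ ⊥ := by
    intro hb
    have h1 : (⟨x, hxQ⟩ : Q) ∈ N := hi
    rw [hb, mem_bot] at h1
    exact hx1 (congrArg Subtype.val h1)
  obtain ⟨z, hz, hzc, hz2⟩ := Cfsg.Agent.Involutions.NormalFour.exists_mem_center_of_normal hQ N hNne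
  refine ⟨(z : G), h'.mem_of_at hz, z.2, ?_, ?_, ?_, h'.not_orth_of_at hi hz⟩
  · intro h1
    have h2 : z = 1 := Subtype.ext h1
    rw [h2, orderOf_one] at hz2
    omega
  · have h2 : z * z = 1 := by rw [← pow_two, ← hz2, pow_orderOf_eq_one]
    exact congrArg Subtype.val h2
  · intro q hq
    exact (congrArg Subtype.val (mem_center_iff.1 hzc ⟨q, hq⟩)).symm

/-- in each 2-subgroup `Q` normalising the factor of `x`, in particular commuting with `x`, there is a central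
involution in the factor of `x`. -/
theorem PF.exists_central_of_comm (hx : x ∈ 𝒟) (hxQ : x ∈ Q) (hx1 : x ≠ 1) (hxc : ∀ q ∈ Q, q * x = x * q) :
    ∃ z ∈ 𝒟, z ∈ Q ∧ z ≠ 1 ∧ z * z = 1 ∧ (∀ q ∈ Q, z * q = q * z) ∧ ¬ Orth 𝒟 x z := by
  haveI : Fact (Nat.Prime 2) := ⟨Nat.prime_two⟩
  obtain ⟨T, e', h', hT⟩ := h.exists_over hQ
  obtain ⟨i, hi⟩ := h'.exists_at hx (hT hxQ)
  let N : Subgroup Q :=
    { carrier := {q | At e' i (q : G)}
      one_mem' := At.one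
      mul_mem' := fun ha hb => At.mul ha hb
      inv_mem' := fun ha => At.inv ha }
  have hN : N.Normal := ⟨fun n hn g => h'.at_conj_same hi hx1 (hT g.2) (hxc g g.2) hn⟩
  have hNne : N ≠ ⊥ := by
    intro hb
    have h1 : (⟨x, hxQ⟩ : Q) ∈ N := hi
    rw [hb, mem_bot] at h1
    exact hx1 (congrArg Subtype.val h1)
  obtain ⟨z, hz, hzc, hz2⟩ := Cfsg.Agent.Involutions.NormalFour.exists_mem_center_of_normal hQ N hNne
  refine ⟨(z : G), h'.mem_of_at hz, z.2, ?_, ?_, ?_, h'.not_orth_of_at hi hz⟩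
  · intro h1
    have h2 : z = 1 := Subtype.ext h1
    rw [h2, orderOf_one] at hz2
    omega
  · have h2 : z * z = 1 := by rw [← pow_two, ← hz2, pow_orderOf_eq_one]
    exact congrArg Subtype.val h2
  · intro q hq
    exact (congrArg Subtype.val (mem_center_iff.1 hzc ⟨q, hq⟩)).symm

end Q

/-! ### Products of two orthogonal elements -/

section

variable [Finite G] [Finite ι] {𝒜 𝒟 : Set G} {T T' : Sylow 2 G} {e : ↥(fam 𝒜 (T : Subgroup G)) ≃* (∀ i, A i)}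
  {e' : ↥(fam 𝒜 (T' : Subgroup G)) ≃* (∀ i, A i)} (hT : PF 𝒜 𝒟 T e) (hT' : PF 𝒜 𝒟 T' e') {x y v : G} {i i' : ι}

omit [Finite G] [Finite ι] in
theorem PF.comps_mul_eq (hT : PF 𝒜 𝒟 T e) (ho : Orth 𝒟 x y) (hx : x ∈ (T : Subgroup G))
    (hy : y ∈ (T : Subgroup G)) : Comps e (x * y) = {x, y} := by
  obtain ⟨i, hi⟩ := hT.exists_at ho.1 hx
  obtain ⟨j, hj⟩ := hT.exists_at ho.2.1 hy
  have hij := hT.ne_of_orth ho hi hj
  have hm : ∀ (hxy : x * y ∈ fam 𝒜 (T : Subgroup G)) k,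
      comp e k ⟨x * y, hxy⟩ = comp e k ⟨x, hi.1⟩ * comp e k ⟨y, hj.1⟩ := by
    intro hxy k
    rw [← comp_mul]
    rfl
  ext z
  constructor
  · rintro ⟨hz, hxy, k, rfl⟩
    rw [hm] at hz ⊢
    by_cases hki : k = i
    · subst hki
      left
      rw [hj.comp_ne hij, mul_one]
      exact hi.comp_same
    · rw [hi.comp_ne hki, one_mul] at hz ⊢
      by_cases hkj : k = j
      · subst hkj
        right
        exact hj.comp_same
      · exact absurd (hj.comp_ne hkj) hz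
  · rintro (rfl | rfl)
    · refine ⟨ho.ne_one_left, mul_mem hi.1 hj.1, i, ?_⟩
      rw [hm, hj.comp_ne hij, mul_one]
      exact hi.comp_same.symm
    · refine ⟨ho.ne_one_right, mul_mem hi.1 hj.1, j, ?_⟩
      rw [hm, hi.comp_ne hij.symm, one_mul]
      exact hj.comp_same.symm

include hT in
/-- (0.3) If `x y ∈ T`, `x ⊥ y`, then some element of `C(x y)` maps `x` and `y` into `T`. -/
theorem PF.exists_conj_of_mul_mem (ho : Orth 𝒟 x y) (hxy : x * y ∈ (T : Subgroup G)) :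
    ∃ h : G, h * (x * y) = x * y * h ∧ h * x * h⁻¹ ∈ (T : Subgroup G) ∧ h * y * h⁻¹ ∈ (T : Subgroup G) := by
  have hp := isPGroup_closure_pair (hT.two ho.1) (hT.two ho.2.1) ho.comm
  obtain ⟨T₁, e₁, h₁, hT₁⟩ := hT.exists_over hp
  have hxT₁ : x ∈ (T₁ : Subgroup G) := hT₁ (subset_closure (by simp))
  have hyT₁ : y ∈ (T₁ : Subgroup G) := hT₁ (subset_closure (by simp))
  have hxyf : x * y ∈ fam 𝒜 (T₁ : Subgroup G) := mul_mem (h₁.mem_famT ho.1 hxT₁) (h₁.mem_famT ho.2.1 hyT₁)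
  have hxyT : x * y ∈ fam 𝒜 (T : Subgroup G) :=
    (mem_fam_sylow hT.cf).2 ⟨((mem_fam_sylow hT.cf).1 hxyf).1, hxy⟩
  obtain ⟨h, hc, hcomps⟩ := cw hT h₁ (zpowers (x * y)) (by
    intro a ha b hb
    obtain ⟨m, rfl⟩ := mem_zpowers_iff.1 ha
    obtain ⟨n, rfl⟩ := mem_zpowers_iff.1 hb
    exact ((Commute.refl (x * y)).zpow_left m |>.zpow_right n).eq) (by rw [zpowers_le]; exact hxyT)
    (by rw [zpowers_le]; exact mul_mem hxT₁ hyT₁)
  have key := hcomps (x * y) (mem_zpowers _)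
  rw [h₁.comps_mul_eq ho hxT₁ hyT₁] at key
  have hmem : ∀ z ∈ ({x, y} : Set G), h * z * h⁻¹ ∈ (T : Subgroup G) := by
    intro z hz
    have h2 : h * z * h⁻¹ ∈ Comps e (x * y) := by
      rw [key]
      have : h⁻¹ * (h * z * h⁻¹) * h = z := by group
      rw [this]; exact hz
    obtain ⟨-, hm, k, hk⟩ := h2
    rw [hk]; exact At.mem_sylow hT (at_comp k _)
  exact ⟨h, hc _ (mem_zpowers _), hmem x (by simp), hmem y (by simp)⟩

include hT hT' in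
/-- The component of `x ∈ 𝒜` in the factor of `v` is trivial in `T` iff it is in `T'` (`x` commutes with `v`). -/
theorem PF.comp_eq_one (hvx : v * x = x * v) (hv1 : v ≠ 1) (hi : At e i v) (hi' : At e' i' v)
    (hx : x ∈ fam 𝒜 (T : Subgroup G)) (hx' : x ∈ fam 𝒜 (T' : Subgroup G)) (h1 : comp e i ⟨x, hx⟩ = 1) :
    comp e' i' ⟨x, hx'⟩ = 1 := by
  obtain ⟨h, hc, hcomps⟩ := cw hT hT' (closure {v, x}) (closure_pair_comm hvx)
    (by rw [closure_le]; rintro z (rfl | rfl); exacts [hi.1, hx])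
    (by
      rw [closure_le]
      rintro z (rfl | rfl)
      exacts [At.mem_sylow hT' hi', ((mem_fam_sylow hT.cf).1 hx').2])
  have hhv : h * v = v * h := hc v (subset_closure (by simp))
  by_contra hne
  have hy := mem_comps_of_comp (e := e') hx' i' hne
  set y := comp e' i' ⟨x, hx'⟩ with hydef
  have h2 : h * y * h⁻¹ ∈ Comps e x := by
    rw [hcomps x (subset_closure (by simp))]
    have : h⁻¹ * (h * y * h⁻¹) * h = y := by group
    rw [this]; exact hy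
  obtain ⟨hne2, hxT, k, hk⟩ := h2
  -- `y` is not orthogonal to `v`
  have h3 : ¬ Orth 𝒟 v y := hT'.not_orth_of_at hi' (at_comp i' _)
  have h4 : ¬ Orth 𝒟 v (h * y * h⁻¹) := by
    intro ho
    apply h3
    have := ho.conj hT.conj h⁻¹
    have e1 : h⁻¹ * v * h⁻¹⁻¹ = v := by
      rw [inv_inv, mul_assoc, ← hhv]; group
    have e2 : h⁻¹ * (h * y * h⁻¹) * h⁻¹⁻¹ = y := by group
    rwa [e1, e2] at this
  have hyT : h * y * h⁻¹ ∈ (T : Subgroup G) := by rw [hk]; exact At.mem_sylow hT (at_comp k _)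
  have hyD : h * y * h⁻¹ ∈ 𝒟 := hT.conj _ (hT'.mem_of_at (at_comp i' _)) h
  have h5 := hT.at_of_not_orth hi hv1 hyD hyT h4
  by_cases hki : k = i
  · subst hki
    exact hne2 (hk.trans h1)
  · have h6 : At e k (h * y * h⁻¹) := by rw [hk]; exact at_comp k _
    exact hne2 (h6.eq_one h5 hki)

end

section

variable [Finite G] {𝒜 𝒟 : Set G} {S : Sylow 2 G} {e : ↥(fam 𝒜 (S : Subgroup G)) ≃* (∀ i, A i)}
  (hS : PF 𝒜 𝒟 S e) {x y : G}
include hS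

/-- `{x, y}` is isolated in `C(x y)`, `x ⊥ y`. -/
theorem PF.pair_isolated (ho : Orth 𝒟 x y) {Q : Subgroup G} (hQ : IsPGroup 2 Q) (hxQ : x ∈ Q) (hyQ : y ∈ Q) {g : G}
    (hg : g * (x * y) = x * y * g) (hgQ : g * x * g⁻¹ ∈ Q) : g * x * g⁻¹ = x ∨ g * x * g⁻¹ = y := by
  obtain ⟨T, e', h', hT⟩ := hS.exists_over hQ
  have hgy : g * y * g⁻¹ = (g * x * g⁻¹)⁻¹ * (x * y) := by
    have : g * (x * y) * g⁻¹ = x * y := by rw [hg]; group
    calc g * y * g⁻¹ = (g * x * g⁻¹)⁻¹ * (g * (x * y) * g⁻¹) := by group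
      _ = _ := by rw [this]
  have hgyQ : g * y * g⁻¹ ∈ Q := by
    rw [hgy]; exact mul_mem (inv_mem hgQ) (mul_mem hxQ hyQ)
  have hprod : g * x * g⁻¹ * (g * y * g⁻¹) = x * y := by rw [hgy]; group
  have ho' := ho.conj hS.conj g
  have h1 := h'.comps_mul_eq ho (hT hxQ) (hT hyQ)
  have h2 := h'.comps_mul_eq ho' (hT hgQ) (hT hgyQ)
  rw [hprod, h1] at h2
  have h3 : g * x * g⁻¹ ∈ ({x, y} : Set G) := by rw [h2]; simp
  rcases h3 with h3 | h3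
  · exact Or.inl h3
  · exact Or.inr h3

end

/-- If `c` centralises `t ∈ fam 𝒜 T` and maps the `i`-th component of `t` to an element of the same factor of `T`,
then it fixes it. -/
theorem PF.conj_comp_eq [Finite G] [Finite ι] {𝒜 𝒟 : Set G} {T : Sylow 2 G}
    {e : ↥(fam 𝒜 (T : Subgroup G)) ≃* (∀ i, A i)} (hT : PF 𝒜 𝒟 T e) {t c : G} {i : ι}
    (ht : t ∈ fam 𝒜 (T : Subgroup G)) (hne : comp e i ⟨t, ht⟩ ≠ 1)
    (hc : c * t = t * c) (hat : At e i (c * comp e i ⟨t, ht⟩ * c⁻¹)) :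
    c * comp e i ⟨t, ht⟩ * c⁻¹ = comp e i ⟨t, ht⟩ := by
  set a := comp e i ⟨t, ht⟩ with ha
  set d := c * a * c⁻¹ with hd
  have hta : t * a = a * t := (comp_comm i (x := ⟨t, ht⟩) (y := ⟨t, ht⟩) rfl).symm
  have hctc : c * t * c⁻¹ = t := by rw [hc]; group
  have htd : t * d = d * t := by
    calc t * d = (c * t * c⁻¹) * (c * a * c⁻¹) := by rw [hctc]
      _ = c * (t * a) * c⁻¹ := by group
      _ = c * (a * t) * c⁻¹ := by rw [hta]
      _ = (c * a * c⁻¹) * (c * t * c⁻¹) := by group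
      _ = d * t := by rw [hctc]
  have hd1 : d ≠ 1 := by
    intro h1
    apply hne
    have : a = c⁻¹ * d * c := by rw [hd]; group
    rw [this, h1]; group
  have hdi : d * (t * d⁻¹) = (t * d⁻¹) * d := by
    have : Commute d t := htd.symm
    exact (this.mul_right (Commute.refl d).inv_right).eq
  have hdc : At (conjE hT.cf e c) i d := at_conjE hT.cf (at_comp i _)
  have htc : t ∈ fam 𝒜 ((c • T : Sylow 2 G) : Subgroup G) := by
    rw [mem_fam_smul_iff hT.cf]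
    have : c⁻¹ * t * c = t := by rw [mul_assoc, ← hc]; group
    rw [this]; exact ht
  have hm' : t * d⁻¹ ∈ fam 𝒜 ((c • T : Sylow 2 G) : Subgroup G) := mul_mem htc (inv_mem hdc.1)
  have hm : t * d⁻¹ ∈ fam 𝒜 (T : Subgroup G) := mul_mem ht (inv_mem hat.1)
  have h1 : comp (conjE hT.cf e c) i ⟨t * d⁻¹, hm'⟩ = 1 := by
    have e1 : (⟨t * d⁻¹, hm'⟩ : ↥(fam 𝒜 ((c • T : Sylow 2 G) : Subgroup G))) = ⟨t, htc⟩ * ⟨d⁻¹, inv_mem hdc.1⟩ := rfl
    rw [e1, comp_mul]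
    have e2 : comp (conjE hT.cf e c) i ⟨t, htc⟩ = d := by
      have e3 : (⟨t, htc⟩ : ↥(fam 𝒜 ((c • T : Sylow 2 G) : Subgroup G))) = ⟨c * t * c⁻¹, by rw [hctc]; exact htc⟩ :=
        Subtype.ext hctc.symm
      rw [e3, comp_conjE hT.cf e i c ht]
    rw [e2, (hdc.inv).comp_same, mul_inv_cancel]
  have h2 := PF.comp_eq_one (hT.smul c) hT hdi hd1 hdc hat hm' hm h1
  have e1 : (⟨t * d⁻¹, hm⟩ : ↥(fam 𝒜 (T : Subgroup G))) = ⟨t, ht⟩ * ⟨d⁻¹, inv_mem hat.1⟩ := rfl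
  rw [e1, comp_mul, hat.inv.comp_same, ← ha] at h2
  exact (mul_inv_eq_one.1 h2).symm

end Cfsg.Agent.ProdFusion
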