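import Mathlib
import Cfsg.Prelude.Def_TwoFusion

/-!
# A transfer lemma

If `S = Z₁ × B` is a Sylow 2-subgroup of `K` with `Z₁` central in `K` and `B` strongly closed in `S`, and `K` is
generated by the conjugates of `B`, then `Z₁ = 1`.
-/

set_option autoImplicit false
set_option linter.style.haveILetI false

namespace Cfsg.Agent.ProdFusion.Transfer

open Subgroup

variable {K : Type*} [Group K] [Finite K]

/-- The transfer lemma, without assuming that the conjugates of `B` generate `K`: the intersection of `Z₁` with the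
normal closure of `B` is trivial. -/
theorem inf_normalClosure_eq_bot (S : Sylow 2 K) {Z₁ B : Subgroup K}
    (hZc : ∀ z ∈ Z₁, ∀ k : K, z * k = k * z)
    (hd : Z₁ ⊓ B = ⊥) (hs : Z₁ ⊔ B = S)
    (hcl : ∀ b ∈ B, ∀ g : K, g * b * g⁻¹ ∈ S → g * b * g⁻¹ ∈ B) :
    Z₁ ⊓ normalClosure (B : Set K) = ⊥ := by
  classical
  haveI : Fact (Nat.Prime 2) := ⟨Nat.prime_two⟩
  have hZS : Z₁ ≤ S := by rw [← hs]; exact le_sup_left
  -- `B` is normal in `S`
  have hSB : (S : Subgroup K) ≤ normalizer (B : Set K) := by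
    rw [← hs]
    refine sup_le ?_ le_normalizer
    intro z hz
    rw [mem_normalizer_iff]
    intro x
    have e : z * x * z⁻¹ = x := by rw [hZc z hz x]; group
    rw [e]
  have hmul : ∀ s ∈ (S : Subgroup K), ∃ z ∈ Z₁, ∃ b ∈ B, s = z * b := by
    intro s hs'
    rw [← hs] at hs'
    have h7 : s ∈ ((Z₁ ⊔ B : Subgroup K) : Set K) := hs'
    rw [Subgroup.coe_mul_of_left_le_normalizer_right Z₁ B (hZS.trans hSB)] at h7
    obtain ⟨z, hz, b, hb, rfl⟩ := h7
    exact ⟨z, hz, b, hb, rfl⟩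
  set B' : Subgroup (S : Subgroup K) := B.subgroupOf S with hB'
  haveI hB'n : B'.Normal := normal_subgroupOf_of_le_normalizer hSB
  have hcomm : ∀ x y : (S : Subgroup K) ⧸ B', x * y = y * x := by
    intro x y
    obtain ⟨x, rfl⟩ := QuotientGroup.mk'_surjective B' x
    obtain ⟨y, rfl⟩ := QuotientGroup.mk'_surjective B' y
    obtain ⟨z, hz, b, hb, hx⟩ := hmul x x.2
    obtain ⟨w, hw, c, hc, hy⟩ := hmul y y.2
    have h1 : QuotientGroup.mk' B' x = QuotientGroup.mk' B' ⟨z, hZS hz⟩ := by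
      rw [QuotientGroup.mk'_apply, QuotientGroup.mk'_apply, QuotientGroup.eq, hB', mem_subgroupOf]
      push_cast
      rw [hx]
      have e : (z * b)⁻¹ * z = b⁻¹ * z⁻¹ * z := by group
      rw [e, inv_mul_cancel_right]
      exact inv_mem hb
    have h2 : QuotientGroup.mk' B' y = QuotientGroup.mk' B' ⟨w, hZS hw⟩ := by
      rw [QuotientGroup.mk'_apply, QuotientGroup.mk'_apply, QuotientGroup.eq, hB', mem_subgroupOf]
      push_cast
      rw [hy]
      have e : (w * c)⁻¹ * w = c⁻¹ * w⁻¹ * w := by group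
      rw [e, inv_mul_cancel_right]
      exact inv_mem hc
    rw [h1, h2, ← map_mul, ← map_mul]
    congr 1
    exact Subtype.ext (hZc z hz w)
  letI : CommGroup ((S : Subgroup K) ⧸ B') :=
    { (inferInstance : Group ((S : Subgroup K) ⧸ B')) with mul_comm := hcomm }
  let ϕ : (S : Subgroup K) →* (S : Subgroup K) ⧸ B' := QuotientGroup.mk' B'
  let τ : K →* (S : Subgroup K) ⧸ B' := MonoidHom.transfer ϕ
  -- the transfer vanishes on `B`
  have hτB : ∀ b ∈ B, τ b = 1 := by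
    intro b hb
    haveI : Fintype (Quotient (MulAction.orbitRel (zpowers b) (K ⧸ (S : Subgroup K)))) := Fintype.ofFinite _
    change MonoidHom.transfer ϕ b = 1
    rw [MonoidHom.transfer_eq_prod_quotient_orbitRel_zpowers_quot]
    apply Finset.prod_eq_one
    intro q _
    change QuotientGroup.mk' B' _ = 1
    rw [QuotientGroup.mk'_apply, QuotientGroup.eq_one_iff, hB', mem_subgroupOf]
    have h1 := QuotientGroup.out_conj_pow_minimalPeriod_mem (S : Subgroup K) b q.out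
    have h2 := hcl (b ^ Function.minimalPeriod (b • ·) q.out) (pow_mem hb _) (q.out.out)⁻¹ (by
      rw [inv_inv]; exact h1)
    rw [inv_inv] at h2
    exact h2
  have hτN : normalClosure (B : Set K) ≤ τ.ker := by
    exact normalClosure_le_normal fun b hb => MonoidHom.mem_ker.2 (hτB b hb)
  rw [eq_bot_iff]
  intro z hz
  obtain ⟨hz1, hz2⟩ := mem_inf.1 hz
  have h1 : τ z = 1 := MonoidHom.mem_ker.1 (hτN hz2)
  have hkey : ∀ (k : ℕ) (g₀ : K), g₀⁻¹ * z ^ k * g₀ ∈ (S : Subgroup K) → g₀⁻¹ * z ^ k * g₀ = z ^ k := by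
    intro k g₀ _
    have h2 : z ^ k * g₀ = g₀ * z ^ k := (Commute.pow_left (hZc z hz1 g₀ : Commute z g₀) k).eq
    rw [mul_assoc, h2]
    group
  have h2 : τ z = ϕ ⟨z ^ (S : Subgroup K).index, MonoidHom.transfer_eq_pow_aux z hkey⟩ :=
    MonoidHom.transfer_eq_pow ϕ z hkey
  rw [h1] at h2
  have h3 : (⟨z ^ (S : Subgroup K).index, MonoidHom.transfer_eq_pow_aux z hkey⟩ : (S : Subgroup K)) ∈ B' :=
    (QuotientGroup.eq_one_iff _).1 h2.symm
  rw [hB', mem_subgroupOf] at h3
  have h4 : z ^ (S : Subgroup K).index = 1 := by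
    have : z ^ (S : Subgroup K).index ∈ Z₁ ⊓ B := mem_inf.2 ⟨pow_mem hz1 _, h3⟩
    rw [hd] at this
    exact mem_bot.1 this
  obtain ⟨j, hj⟩ := S.2 ⟨z, hZS hz1⟩
  have hj' : z ^ 2 ^ j = 1 := congrArg Subtype.val hj
  have h5 : (S : Subgroup K).index.Coprime (2 ^ j) := by
    refine Nat.Coprime.pow_right j ?_
    rw [Nat.coprime_comm, Nat.Prime.coprime_iff_not_dvd Nat.prime_two]
    exact S.not_dvd_index
  have h6 := Nat.eq_one_of_dvd_coprimes h5 (orderOf_dvd_of_pow_eq_one h4) (orderOf_dvd_of_pow_eq_one hj')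
  rw [mem_bot]
  exact orderOf_eq_one_iff.1 h6

/-- **Transfer lemma**: if `S = Z₁ × B` is a Sylow 2-subgroup of `K`, `Z₁` is central in `K`, `B` is strongly closed
and `K` is generated by the conjugates of `B`, then `Z₁ = 1`. -/
theorem eq_bot_of_central (S : Sylow 2 K) {Z₁ B : Subgroup K}
    (hZc : ∀ z ∈ Z₁, ∀ k : K, z * k = k * z)
    (hd : Z₁ ⊓ B = ⊥) (hs : Z₁ ⊔ B = S)
    (hcl : ∀ b ∈ B, ∀ g : K, g * b * g⁻¹ ∈ S → g * b * g⁻¹ ∈ B)
    (hgen : normalClosure (B : Set K) = ⊤) : Z₁ = ⊥ := by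
  have h1 := inf_normalClosure_eq_bot S hZc hd hs hcl
  rwa [hgen, inf_top_eq] at h1

end Cfsg.Agent.ProdFusion.Transfer
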